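import Cfsg.Agent.H241.Deg.Loc
import Cfsg.Agent.H58.Cop.Full
import Cfsg.Agent.S0205

/-!
# The centralizer of an element of order 41 (helper241; degrees, row `M`)
-/

set_option autoImplicit false

namespace Cfsg.Agent.H241.Deg

open Subgroup Cfsg Cfsg.Agent.H438.Fpr.LemB Cfsg.Agent.H995.CopEngine Cfsg.Agent.H291.SolNorm
open scoped Pointwise

universe u

theorem mem_of_pow {G : Type*} [Group G] [Finite G] {C : Subgroup G} {g : G} {n : ℕ} (hn : g ^ n ∈ C)
    (hc : (orderOf g).Coprime n) : g ∈ C := by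
  have h2 : zpowers (g ^ n) = zpowers g := by
    apply Subgroup.eq_of_le_of_card_ge
    · rw [zpowers_le]
      exact Subgroup.pow_mem _ (mem_zpowers g) n
    · rw [Nat.card_zpowers, Nat.card_zpowers, Nat.Coprime.orderOf_pow hc]
  have h1 : g ∈ zpowers (g ^ n) := by
    rw [h2]
    exact mem_zpowers g
  exact (zpowers_le.2 hn) h1

section Norm

variable {G : Type u} [Group G] [Finite G] {x : G}

/-- the elements of order 41 of the normalizer -/
theorem mem_zpowers_of (hx : orderOf x = 41) (h41 : ¬ 41 ^ 2 ∣ Nat.card G) {g : G}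
    (hg : g ∈ normalizer ((zpowers x : Subgroup G) : Set G)) (hg1 : g ^ 41 = 1) : g ∈ zpowers x := by
  set N := normalizer ((zpowers x : Subgroup G) : Set G) with hN
  have hle : zpowers x ≤ N := le_normalizer
  have hHn : ((zpowers x).subgroupOf N).Normal := Subgroup.normal_in_normalizer
  set H : Subgroup N := (zpowers x).subgroupOf N with hH
  have hHc : Nat.card H = 41 := by
    rw [Nat.card_congr (subgroupOfEquivOfLe hle).toEquiv, Nat.card_zpowers, hx]
  have hidx : ¬ 41 ∣ H.index := by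
    intro h1
    apply h41
    refine Dvd.dvd.trans ?_ (card_subgroup_dvd_card N)
    rw [← H.card_mul_index, hHc, pow_two]
    exact Nat.mul_dvd_mul_left 41 h1
  have h1 : (⟨g, hg⟩ : N) ^ H.index ∈ H := H.pow_index_mem _
  have h2 : (⟨g, hg⟩ : N) ∈ H := by
    refine mem_of_pow h1 ?_
    have h3 : orderOf (⟨g, hg⟩ : N) ∣ 41 := orderOf_dvd_of_pow_eq_one (Subtype.ext hg1)
    exact Nat.Coprime.coprime_dvd_left h3 ((Nat.Prime.coprime_iff_not_dvd (by norm_num)).2 hidx)
  exact h2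

/-- the centralizer is normal in the normalizer -/
theorem conj_mem_cent {g c : G} (hg : g ∈ normalizer ((zpowers x : Subgroup G) : Set G))
    (hc : c ∈ centralizer ({x} : Set G)) : g * c * g⁻¹ ∈ centralizer ({x} : Set G) := by
  have h1 := (mem_normalizer_iff.1 (inv_mem hg) x).1 (mem_zpowers x)
  obtain ⟨i, hi⟩ := mem_zpowers_iff.1 h1
  rw [inv_inv] at hi
  rw [mem_centralizer_singleton_iff] at hc ⊢
  have h2 : c * (g⁻¹ * x * g) = (g⁻¹ * x * g) * c := by
    rw [← hi]
    exact ((show Commute c x from hc).zpow_right i).eq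
  calc g * c * g⁻¹ * x = g * (c * (g⁻¹ * x * g)) * g⁻¹ := by group
    _ = g * ((g⁻¹ * x * g) * c) * g⁻¹ := by rw [h2]
    _ = x * (g * c * g⁻¹) := by group

theorem cent_le_norm : centralizer ({x} : Set G) ≤ normalizer ((zpowers x : Subgroup G) : Set G) := by
  rw [← centralizer_zpowers]
  exact centralizer_le_normalizer _

/-- an element moving `x` into `⟨x⟩` -/
theorem mem_norm_of {g : G} {t : ℕ} (h : g * x * g⁻¹ = x ^ t) : g ∈ normalizer ((zpowers x : Subgroup G) : Set G) := by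
  have hle : (zpowers x).map (MulAut.conj g).toMonoidHom ≤ zpowers x := by
    rw [MonoidHom.map_zpowers, zpowers_le]
    show g * x * g⁻¹ ∈ zpowers x
    rw [h]
    exact Subgroup.pow_mem _ (mem_zpowers x) t
  have heq : (zpowers x).map (MulAut.conj g).toMonoidHom = zpowers x := by
    apply Subgroup.eq_of_le_of_card_ge hle
    rw [card_map_of_injective (MulAut.conj g).injective]
  rw [mem_normalizer_iff]
  intro y
  constructor
  · intro hy
    exact hle ⟨y, hy, rfl⟩
  · intro hy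
    rw [← heq] at hy
    obtain ⟨z, hz, hzy⟩ := hy
    have h1 : g * z * g⁻¹ = g * y * g⁻¹ := hzy
    have h2 : z = y := mul_left_cancel (mul_right_cancel h1)
    rwa [← h2]

/-- the index is divisible by 5 -/
theorem five_dvd {e : ℕ} (hN : Nat.card (normalizer ((zpowers x : Subgroup G) : Set G)) =
    Nat.card (centralizer ({x} : Set G)) * e) (hx : orderOf x = 41) {m : G} {t : ℕ} (hm : m * x * m⁻¹ = x ^ t)
    (ht : t ^ 5 % 41 = 1) (ht1 : t % 41 ≠ 1) : 5 ∣ e := by
  set N := normalizer ((zpowers x : Subgroup G) : Set G) with hNd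
  set C := centralizer ({x} : Set G) with hCd
  have hle : C ≤ N := cent_le_norm
  have hmN : m ∈ N := mem_norm_of hm
  have hCn : (C.subgroupOf N).Normal := ⟨fun c hc g => conj_mem_cent g.2 hc⟩
  have hidx : (C.subgroupOf N).index = e := by
    have h1 := (C.subgroupOf N).card_mul_index
    rw [Nat.card_congr (subgroupOfEquivOfLe hle).toEquiv, hN] at h1
    exact Nat.eq_of_mul_eq_mul_left Nat.card_pos h1
  by_contra h5
  have h1 : (⟨m, hmN⟩ : N) ^ e ∈ C.subgroupOf N := by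
    rw [← hidx]
    exact (C.subgroupOf N).pow_index_mem _
  have h1' : m ^ e ∈ C := h1
  have h4 : ∀ n : ℕ, m ^ n * x * (m ^ n)⁻¹ = x ^ t ^ n := by
    intro n
    induction n with
    | zero => simp
    | succ n ih =>
      calc m ^ (n + 1) * x * (m ^ (n + 1))⁻¹ = m * (m ^ n * x * (m ^ n)⁻¹) * m⁻¹ := by rw [pow_succ']; group
        _ = (m * x * m⁻¹) ^ t ^ n := by rw [ih, conj_pow]
        _ = x ^ t ^ (n + 1) := by rw [hm, ← pow_mul, pow_succ']
  have h5' : m ^ 5 ∈ C := by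
    rw [hCd, mem_centralizer_singleton_iff]
    have h6 := h4 5
    have h7 : x ^ t ^ 5 = x := by
      rw [← pow_mod_orderOf, hx, ht, pow_one]
    rw [h7] at h6
    exact mul_inv_eq_iff_eq_mul.1 h6
  have hco : Nat.Coprime 5 e := (Nat.prime_five.coprime_iff_not_dvd).2 h5
  have hmC : m ∈ C := by
    have h8 : (m : G) ^ (Nat.gcd 5 e : ℤ) ∈ C := by
      rw [Nat.gcd_eq_gcd_ab, zpow_add, zpow_mul, zpow_mul]
      refine C.mul_mem (C.zpow_mem ?_ _) (C.zpow_mem ?_ _)
      · exact_mod_cast h5'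
      · exact_mod_cast h1'
    rw [hco] at h8
    simpa using h8
  rw [hCd, mem_centralizer_singleton_iff] at hmC
  apply ht1
  have h9 : x ^ t = x ^ 1 := by rw [← hm, hmC, mul_inv_cancel_right, pow_one]
  have h10 := pow_eq_pow_iff_modEq.1 h9
  rw [hx] at h10
  exact h10

end Norm

/-- the hypotheses -/
structure Hyp {G : Type u} [Group G] [Finite G] (x : G) : Prop where
  hx : orderOf x = 41
  h41 : ¬ 41 ^ 2 ∣ Nat.card G
  h3 : ¬ 3 ^ 40 ∣ Nat.card G
  s3 : 3 ^ 3 ∣ Nat.card G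
  s5 : 5 ^ 5 ∣ Nat.card G
  hc : ∀ q, q.Prime → q ≠ 2 → q ≠ 3 → q ≠ 41 → ∀ i, 1 ≤ i → q ^ i ∣ Nat.card G → ¬ 41 ∣ q ^ i - 1
  hodd : ∀ y : G, orderOf y = 3 ∨ orderOf y = 5 → x * y = y * x → ¬ 2 ∣ Nat.card (centralizer ({y} : Set G))

namespace Hyp

variable {G : Type u} [Group G] [Finite G] {x : G}

theorem solvable (H : Hyp x) {y : G} (hy : orderOf y = 3 ∨ orderOf y = 5) (hxy : x * y = y * x) :
    Group.IsSolvable ↥(centralizer ({y} : Set G)) := by
  refine S0205.result ?_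
  rw [← Nat.not_even_iff_odd]
  exact fun h => H.hodd y hy hxy h.two_dvd

theorem cond (H : Hyp x) {y : G} (hy : orderOf y = 3 ∨ orderOf y = 5) (hxy : x * y = y * x) :
    ∀ q, q.Prime → q ≠ 3 → q ≠ 41 → ∀ i, 1 ≤ i → q ^ i ∣ Nat.card (centralizer ({y} : Set G)) → ¬ 41 ∣ q ^ i - 1 := by
  intro q hq h3 h41 i hi hd
  by_cases h2 : q = 2
  · subst h2
    exact absurd ((dvd_pow_self 2 (by omega)).trans hd) (H.hodd y hy hxy)
  · exact H.hc q hq h2 h3 h41 i hi (hd.trans (card_subgroup_dvd_card _))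

/-- **`C(y) ≤ N(⟨x⟩)`** -/
theorem le_norm (H : Hyp x) {y : G} (hy : orderOf y = 3 ∨ orderOf y = 5) (hxy : x * y = y * x) {m : G}
    (hmy : m * y = y * m) {t : ℕ} (hm : m * x * m⁻¹ = x ^ t) (ht : t ^ 5 % 41 = 1) (ht1 : t % 41 ≠ 1) :
    centralizer ({y} : Set G) ≤ normalizer ((zpowers x : Subgroup G) : Set G) := by
  set X := centralizer ({y} : Set G) with hX
  have hxX : x ∈ X := mem_centralizer_singleton_iff.2 hxy
  have hmX : m ∈ X := mem_centralizer_singleton_iff.2 hmy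
  have hn := normal_of_five (H.solvable hy hxy) (fun h => H.h41 (h.trans (card_subgroup_dvd_card _)))
    (fun h => H.h3 (h.trans (card_subgroup_dvd_card _))) (H.cond hy hxy) (x := (⟨x, hxX⟩ : X)) (m := (⟨m, hmX⟩ : X))
    (by rw [Subgroup.orderOf_mk, H.hx]) (t := t) (Subtype.ext hm) ht ht1
  intro g hg
  have h1 := hn.conj_mem (⟨x, hxX⟩ : X) (mem_zpowers _) ⟨g, hg⟩
  rw [← mem_powers_iff_mem_zpowers] at h1
  obtain ⟨s, hs⟩ := h1
  exact mem_norm_of (t := s) (congrArg Subtype.val hs).symm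

theorem nice (H : Hyp x) {y : G} (hy : orderOf y = 3 ∨ orderOf y = 5) (hxy : x * y = y * x) :
    Nice 41 ↥(centralizer ({y} : Set G)) := by
  refine Nice.of_solIdx (by norm_num) ?_ (fun h => H.h41 (h.trans (card_subgroup_dvd_card _)))
    (SolIdx.of_solvable (by norm_num) (H.solvable hy hxy))
  have h1 := Subgroup.orderOf_dvd_natCard _ (mem_centralizer_singleton_iff.2 hxy)
  rwa [H.hx] at h1

/-- an element of order 5 modulo the centralizer -/
theorem exists_m (H : Hyp x) {y : G} (hy : orderOf y = 3 ∨ orderOf y = 5) (hxy : x * y = y * x) {k : ℕ}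
    (hk : 5 ^ k ∣ Nat.card (centralizer ({y} : Set G))) (hk' : ¬ 5 ^ k ∣ Nat.card (centralizer ({x} : Set G))) :
    ∃ (m : G) (t : ℕ), m * y = y * m ∧ m * x * m⁻¹ = x ^ t ∧ t ^ 5 % 41 = 1 ∧ t % 41 ≠ 1 := by
  set X := centralizer ({y} : Set G) with hX
  have hxX : x ∈ X := mem_centralizer_singleton_iff.2 hxy
  have key : Nat.card (centralizer ({(⟨x, hxX⟩ : X)} : Set X)) ∣ Nat.card (centralizer ({x} : Set G)) := by
    rw [← card_map_of_injective X.subtype_injective]
    refine card_dvd_of_le ?_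
    rintro _ ⟨c, hc, rfl⟩
    exact mem_centralizer_singleton_iff.2 (congrArg Subtype.val (mem_centralizer_singleton_iff.1 hc))
  obtain ⟨m, t, h1, h2, h3⟩ := exists_five (fun h => H.h41 (h.trans (card_subgroup_dvd_card _))) (x := (⟨x, hxX⟩ : X))
    (by rw [Subgroup.orderOf_mk, H.hx]) (H.nice hy hxy)
    (fun i hi hd => H.cond hy hxy 5 Nat.prime_five (by norm_num) (by norm_num) i hi hd) hk (fun h => hk' (h.trans key))
  exact ⟨m, t, mem_centralizer_singleton_iff.1 m.2, congrArg Subtype.val h1, h2, h3⟩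

/-- the 5-part of `N(⟨x⟩)` -/
theorem norm_five (H : Hyp x) {y : G} (hy : orderOf y = 3 ∨ orderOf y = 5) (hxy : x * y = y * x) {k : ℕ}
    (hk : 5 ^ k ∣ Nat.card (centralizer ({y} : Set G))) :
    5 ^ k ∣ Nat.card (normalizer ((zpowers x : Subgroup G) : Set G)) := by
  set X := centralizer ({y} : Set G) with hX
  have hxX : x ∈ X := mem_centralizer_singleton_iff.2 hxy
  have h1 := norm_part (by norm_num) (fun h => H.h41 (h.trans (card_subgroup_dvd_card _))) (x := (⟨x, hxX⟩ : X))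
    (by rw [Subgroup.orderOf_mk, H.hx]) (H.nice hy hxy) Nat.prime_five (by norm_num)
    (fun i hi hd => H.cond hy hxy 5 Nat.prime_five (by norm_num) (by norm_num) i hi hd) hk
  refine h1.trans ?_
  rw [← card_map_of_injective X.subtype_injective]
  refine card_dvd_of_le ?_
  rintro _ ⟨g, hg, rfl⟩
  have h2 := (mem_normalizer_iff.1 hg ⟨x, hxX⟩).1 (mem_zpowers _)
  rw [← mem_powers_iff_mem_zpowers] at h2
  obtain ⟨s, hs⟩ := h2
  exact mem_norm_of (t := s) (congrArg Subtype.val hs).symm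

/-- **The centralizer is commutative.** -/
theorem comm (H : Hyp x) {a b : ℕ} (hC : Nat.card (centralizer ({x} : Set G)) ∣ 3 ^ a * 5 ^ b * 41)
    (hN : 2 ∣ Nat.card (normalizer ((zpowers x : Subgroup G) : Set G))) :
    ∀ c ∈ centralizer ({x} : Set G), ∀ d ∈ centralizer ({x} : Set G), c * d = d * c := by
  have h2f : Fact (Nat.Prime 2) := ⟨Nat.prime_two⟩
  set C := centralizer ({x} : Set G) with hCd
  set N := normalizer ((zpowers x : Subgroup G) : Set G) with hNd
  have hC2 : ¬ 2 ∣ Nat.card C := fun h => by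
    have h1 := h.trans hC
    rcases (Nat.Prime.dvd_mul Nat.prime_two).1 h1 with h2 | h2
    · rcases (Nat.Prime.dvd_mul Nat.prime_two).1 h2 with h3 | h3
      · exact absurd (Nat.prime_two.dvd_of_dvd_pow h3) (by norm_num)
      · exact absurd (Nat.prime_two.dvd_of_dvd_pow h3) (by norm_num)
    · exact absurd h2 (by norm_num)
  obtain ⟨τ, hτ⟩ := exists_prime_orderOf_dvd_card' 2 hN
  have hτo : orderOf (τ : G) = 2 := by rw [Subgroup.orderOf_coe, hτ]
  have hτ2 : (τ : G) * τ = 1 := by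
    have := pow_orderOf_eq_one (τ : G)
    rwa [hτo, pow_two] at this
  have hτC : (τ : G) ∉ C := fun h => by
    apply hC2
    have := Subgroup.orderOf_dvd_natCard C h
    rwa [hτo] at this
  -- the fixed points
  have hfix : ∀ c ∈ C, (τ : G) * c = c * τ → c = 1 := by
    intro c hc hcτ
    by_contra hc1
    have ho : orderOf c ≠ 1 := fun h => hc1 (orderOf_eq_one_iff.1 h)
    obtain ⟨q, hq, hqd⟩ := Nat.exists_prime_and_dvd ho
    have hcd : orderOf c ∣ 3 ^ a * 5 ^ b * 41 := (Subgroup.orderOf_dvd_natCard C hc).trans hC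
    have hq3 : q = 3 ∨ q = 5 ∨ q = 41 := by
      rcases hq.dvd_mul.1 (hqd.trans hcd) with h1 | h1
      · rcases hq.dvd_mul.1 h1 with h2 | h2
        · exact Or.inl ((Nat.prime_dvd_prime_iff_eq hq Nat.prime_three).1 (hq.dvd_of_dvd_pow h2))
        · exact Or.inr (Or.inl ((Nat.prime_dvd_prime_iff_eq hq Nat.prime_five).1 (hq.dvd_of_dvd_pow h2)))
      · exact Or.inr (Or.inr ((Nat.prime_dvd_prime_iff_eq hq (by norm_num)).1 h1))
    set c' := c ^ (orderOf c / q) with hc'
    have hc'o : orderOf c' = q := by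
      rw [hc', orderOf_pow_of_dvd (Nat.div_pos (Nat.le_of_dvd (orderOf_pos c) hqd) hq.pos).ne'
        (Nat.div_dvd_of_dvd hqd), Nat.div_div_self hqd (orderOf_pos c).ne']
    have hc'C : c' ∈ C := C.pow_mem hc _
    have hc'τ : (τ : G) * c' = c' * τ := ((show Commute (τ : G) c from hcτ).pow_right _).eq
    have hxc : x * c' = c' * x := (mem_centralizer_singleton_iff.1 hc'C).symm
    have hτc : 2 ∣ Nat.card (centralizer ({c'} : Set G)) := by
      have := Subgroup.orderOf_dvd_natCard _ (mem_centralizer_singleton_iff.2 hc'τ)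
      rwa [hτo] at this
    rcases hq3 with rfl | rfl | rfl
    · exact H.hodd c' (Or.inl hc'o) hxc hτc
    · exact H.hodd c' (Or.inr hc'o) hxc hτc
    · have h3 : c' ∈ zpowers x := mem_zpowers_of H.hx H.h41 (cent_le_norm hc'C) (by rw [← hc'o, pow_orderOf_eq_one])
      have h4 : zpowers c' = zpowers x := by
        apply Subgroup.eq_of_le_of_card_ge (zpowers_le.2 h3)
        rw [Nat.card_zpowers, Nat.card_zpowers, H.hx, hc'o]
      have h5 : x ∈ zpowers c' := by
        rw [h4]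
        exact mem_zpowers x
      obtain ⟨i, hi⟩ := mem_zpowers_iff.1 h5
      apply hτC
      rw [hCd, mem_centralizer_singleton_iff, ← hi]
      exact ((show Commute (τ : G) c' from hc'τ).zpow_right i).eq
  let φ : C →* C :=
    { toFun := fun c => ⟨τ * c * (τ : G)⁻¹, conj_mem_cent τ.2 c.2⟩
      map_one' := Subtype.ext (by simp)
      map_mul' := fun c d => Subtype.ext (by
        show (τ : G) * (c * d) * (τ : G)⁻¹ = τ * c * (τ : G)⁻¹ * (τ * d * (τ : G)⁻¹)
        group) }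
  have hφ : MonoidHom.FixedPointFree φ := by
    intro c hc
    apply Subtype.ext
    have h1 : (τ : G) * c * (τ : G)⁻¹ = c := congrArg Subtype.val hc
    exact hfix c c.2 (mul_inv_eq_iff_eq_mul.1 h1)
  have hφ2 : Function.Involutive φ := by
    intro c
    apply Subtype.ext
    show (τ : G) * (τ * c * (τ : G)⁻¹) * (τ : G)⁻¹ = c
    calc (τ : G) * (τ * c * (τ : G)⁻¹) * (τ : G)⁻¹ = ((τ : G) * τ) * c * ((τ : G) * τ)⁻¹ := by group
      _ = c := by rw [hτ2, one_mul, inv_one, mul_one]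
  intro c hc d hd
  exact congrArg Subtype.val (hφ.commute_all_of_involutive hφ2 (⟨c, hc⟩ : C) ⟨d, hd⟩).eq

/-- **A Sylow 5-subgroup of `C(x)` and the centralizers of its elements.** -/
theorem five_step (H : Hyp x) (hcomm : ∀ c ∈ centralizer ({x} : Set G), ∀ d ∈ centralizer ({x} : Set G), c * d = d * c)
    (hN5 : ¬ 5 ^ 5 ∣ Nat.card (normalizer ((zpowers x : Subgroup G) : Set G))) {P : Subgroup G}
    (hP : P ≤ centralizer ({x} : Set G)) {b : ℕ} (hPc : Nat.card P = 5 ^ b)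
    (hb : ¬ 5 ^ (b + 1) ∣ Nat.card (centralizer ({x} : Set G))) {u : G} (hu : u ∈ P) (huo : orderOf u = 5) :
    ∃ (m : G) (t : ℕ), m * u = u * m ∧ m * x * m⁻¹ = x ^ t ∧ t ^ 5 % 41 = 1 ∧ t % 41 ≠ 1 := by
  have h5f : Fact (Nat.Prime 5) := ⟨Nat.prime_five⟩
  set C := centralizer ({x} : Set G) with hCd
  have hxu : x * u = u * x := (mem_centralizer_singleton_iff.1 (hP hu)).symm
  refine H.exists_m (Or.inr huo) hxu (k := b + 1) ?_ hb
  obtain ⟨S, hS⟩ := (IsPGroup.of_card hPc).exists_le_sylow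
  have hSne : (S : Subgroup G) ≠ ⊥ := fun h => by
    have h1 := hS hu
    rw [h, mem_bot] at h1
    rw [h1, orderOf_one] at huo
    norm_num at huo
  obtain ⟨w, hwS, hwo, hwc⟩ := Cfsg.Agent.H58.Cop.exists_center_order S.2 hSne
  have hwC : w ∉ C := by
    intro hwC
    apply hN5
    refine H.norm_five (y := w) (Or.inr hwo) (mem_centralizer_singleton_iff.1 hwC).symm ?_
    refine Dvd.dvd.trans ?_ (card_dvd_of_le (fun s hs => mem_centralizer_singleton_iff.2 (hwc s hs) :
      (S : Subgroup G) ≤ centralizer ({w} : Set G)))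
    rw [Sylow.card_eq_multiplicity]
    exact pow_dvd_pow 5 ((Nat.prime_five.pow_dvd_iff_le_factorization Nat.card_pos.ne').1 H.s5)
  set A : Subgroup G := (S : Subgroup G) ⊓ centralizer ({u} : Set G) with hA
  have hPA : P ≤ A := le_inf hS fun c hc => mem_centralizer_singleton_iff.2 (hcomm c (hP hc) u (hP hu))
  have hwA : w ∈ A := ⟨hwS, mem_centralizer_singleton_iff.2 (hwc u (hS hu)).symm⟩
  have hlt : P < A := lt_of_le_of_ne hPA fun h => hwC (hP (by rw [h]; exact hwA))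
  obtain ⟨j, hj⟩ := IsPGroup.iff_card.1 (S.2.to_le (inf_le_left : A ≤ (S : Subgroup G)))
  have hcl : Nat.card P < Nat.card A := by
    have h1 : (P : Set G).ncard < (A : Set G).ncard := Set.ncard_lt_ncard hlt (Set.toFinite _)
    exact h1
  rw [hPc, hj] at hcl
  have hbj : b < j := (Nat.pow_lt_pow_iff_right (by norm_num)).1 hcl
  exact (pow_dvd_pow 5 hbj).trans (hj ▸ card_dvd_of_le inf_le_right)

/-- a Sylow 5-subgroup of `C(x)` -/
theorem exists_P {b : ℕ} (hb : 5 ^ b ∣ Nat.card (centralizer ({x} : Set G))) :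
    ∃ P : Subgroup G, P ≤ centralizer ({x} : Set G) ∧ Nat.card P = 5 ^ b := by
  have h5f : Fact (Nat.Prime 5) := ⟨Nat.prime_five⟩
  obtain ⟨Q, hQ⟩ := Sylow.exists_subgroup_card_pow_prime 5 hb
  exact ⟨Q.map (centralizer ({x} : Set G)).subtype, map_subtype_le _,
    by rw [card_map_of_injective (Subgroup.subtype_injective _), hQ]⟩

theorem exists_u {P : Subgroup G} {b : ℕ} (hPc : Nat.card P = 5 ^ b) (hb : b ≠ 0) : ∃ u ∈ P, orderOf u = 5 := by
  have h5f : Fact (Nat.Prime 5) := ⟨Nat.prime_five⟩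
  obtain ⟨u, hu⟩ := exists_prime_orderOf_dvd_card' (G := P) 5 (by rw [hPc]; exact dvd_pow_self 5 hb)
  exact ⟨u, u.2, by rw [Subgroup.orderOf_coe, hu]⟩

/-- **`5 ∣ e`** -/
theorem five_dvd_e (H : Hyp x) (hcomm : ∀ c ∈ centralizer ({x} : Set G), ∀ d ∈ centralizer ({x} : Set G), c * d = d * c)
    (hN5 : ¬ 5 ^ 5 ∣ Nat.card (normalizer ((zpowers x : Subgroup G) : Set G))) {b e : ℕ} (hb0 : b ≠ 0)
    (hb1 : 5 ^ b ∣ Nat.card (centralizer ({x} : Set G))) (hb2 : ¬ 5 ^ (b + 1) ∣ Nat.card (centralizer ({x} : Set G)))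
    (hN : Nat.card (normalizer ((zpowers x : Subgroup G) : Set G)) = Nat.card (centralizer ({x} : Set G)) * e) :
    5 ∣ e := by
  obtain ⟨P, hP, hPc⟩ := exists_P hb1
  obtain ⟨u, hu, huo⟩ := exists_u hPc hb0
  obtain ⟨m, t, -, h1, h2, h3⟩ := H.five_step hcomm hN5 hP hPc hb2 hu huo
  exact five_dvd hN H.hx h1 h2 h3

/-- **`|C(x)|` is not `5 ^ 3 · 41`.** -/
theorem not_cube (H : Hyp x) (hcomm : ∀ c ∈ centralizer ({x} : Set G), ∀ d ∈ centralizer ({x} : Set G), c * d = d * c)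
    (hN5 : ¬ 5 ^ 5 ∣ Nat.card (normalizer ((zpowers x : Subgroup G) : Set G)))
    (hb1 : 5 ^ 3 ∣ Nat.card (centralizer ({x} : Set G))) (hb2 : ¬ 5 ^ 4 ∣ Nat.card (centralizer ({x} : Set G))) :
    False := by
  have h5f : Fact (Nat.Prime 5) := ⟨Nat.prime_five⟩
  obtain ⟨P, hP, hPc⟩ := exists_P hb1
  set N := normalizer ((zpowers x : Subgroup G) : Set G) with hNd
  have hall : ∀ u ∈ P, orderOf u = 5 → centralizer ({u} : Set G) ≤ N := by
    intro u hu huo
    obtain ⟨m, t, h0, h1, h2, h3⟩ := H.five_step hcomm hN5 hP hPc hb2 hu huo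
    exact H.le_norm (Or.inr huo) (mem_centralizer_singleton_iff.1 (hP hu)).symm h0 h1 h2 h3
  obtain ⟨S, hS⟩ := (IsPGroup.of_card hPc).exists_le_sylow
  set A : Subgroup G := (S : Subgroup G) ⊓ N with hA
  have hPA : P ≤ A := le_inf hS (hP.trans cent_le_norm)
  have hAp : IsPGroup 5 A := S.2.to_le inf_le_left
  obtain ⟨j, hj⟩ := IsPGroup.iff_card.1 hAp
  have hj4 : j ≤ 4 := by
    by_contra hcon
    apply hN5
    refine (pow_dvd_pow 5 (by omega : 5 ≤ j)).trans ?_
    rw [← hj]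
    exact card_dvd_of_le inf_le_right
  have hAS : A.subgroupOf (S : Subgroup G) < ⊤ := by
    rw [lt_top_iff_ne_top]
    intro htop
    have h1 : (S : Subgroup G) ≤ A := by
      intro g hg
      have h2 : (⟨g, hg⟩ : (S : Subgroup G)) ∈ A.subgroupOf (S : Subgroup G) := by rw [htop]; trivial
      exact h2
    have h2 : 5 ^ 5 ∣ Nat.card (S : Subgroup G) := by
      rw [Sylow.card_eq_multiplicity]
      exact pow_dvd_pow 5 ((Nat.prime_five.pow_dvd_iff_le_factorization Nat.card_pos.ne').1 H.s5)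
    exact hN5 ((h2.trans (card_dvd_of_le h1)).trans (card_dvd_of_le inf_le_right))
  have hnil : Group.IsNilpotent ↥(S : Subgroup G) := S.isPGroup'.isNilpotent
  have h1 := Group.normalizerCondition_of_isNilpotent (G := ↥(S : Subgroup G)) _ hAS
  obtain ⟨⟨g, hgS⟩, hg1, hg2⟩ := SetLike.exists_of_lt h1
  have hgA : g ∉ A := fun h => hg2 (mem_subgroupOf.2 h)
  have hgc : ∀ a ∈ A, g * a * g⁻¹ ∈ A := by
    intro a ha
    rw [mem_normalizer_iff] at hg1
    exact (hg1 ⟨a, ha.1⟩).1 ha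
  -- `P ∩ P ^ g`
  set P' : Subgroup G := P.map (MulAut.conj g).toMonoidHom with hP'
  have hP'A : P' ≤ A := by
    rintro _ ⟨a, ha, rfl⟩
    exact hgc a (hPA ha)
  have hP'c : Nat.card P' = 5 ^ 3 := by
    rw [hP', card_map_of_injective (MulAut.conj g).injective, hPc]
  by_cases hd : P ⊓ P' = ⊥
  · have h2 := Subgroup.mul_injective_of_disjoint (disjoint_iff.2 hd)
    let f : P × P' → A := fun w => ⟨(w.1 : G) * w.2, A.mul_mem (hPA w.1.2) (hP'A w.2.2)⟩
    have hf : Function.Injective f := fun u v huv => h2 (congrArg Subtype.val huv)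
    have h3 := Nat.card_le_card_of_injective f hf
    rw [Nat.card_prod, hPc, hP'c, hj, ← pow_add] at h3
    have h4 := (Nat.pow_le_pow_iff_right (by norm_num : 1 < 5)).1 h3
    omega
  · have hp1 : IsPGroup 5 ↥(P ⊓ P' : Subgroup G) := hAp.to_le (inf_le_left.trans hPA)
    have hnt : Nontrivial ↥(P ⊓ P' : Subgroup G) := (Subgroup.nontrivial_iff_ne_bot _).2 hd
    obtain ⟨i, hi0, hi⟩ := hp1.nontrivial_iff_card.1 hnt
    obtain ⟨⟨w, hw⟩, hwo⟩ := exists_prime_orderOf_dvd_card' 5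
      (show 5 ∣ Nat.card ↥(P ⊓ P' : Subgroup G) by
        rw [hi]; exact dvd_pow_self 5 hi0.ne')
    rw [Subgroup.orderOf_mk] at hwo
    obtain ⟨hwP, v, hv, hvw⟩ := hw
    have hvw' : g * v * g⁻¹ = w := hvw
    have h3 : g * x * g⁻¹ ∈ centralizer ({w} : Set G) := by
      rw [mem_centralizer_singleton_iff, ← hvw']
      have h4 := mem_centralizer_singleton_iff.1 (hP hv)
      calc g * x * g⁻¹ * (g * v * g⁻¹) = g * (x * v) * g⁻¹ := by group
        _ = g * (v * x) * g⁻¹ := by rw [h4]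
        _ = _ := by group
    have h4 := hall w hwP hwo h3
    have h5 := mem_zpowers_of H.hx H.h41 h4 (by
      rw [conj_pow, ← H.hx, pow_orderOf_eq_one, mul_one, mul_inv_cancel])
    rw [← mem_powers_iff_mem_zpowers] at h5
    obtain ⟨s, hs⟩ := h5
    exact hgA ⟨hgS, mem_norm_of (t := s) hs.symm⟩

/-- **The 3-part.** -/
theorem not_nine (H : Hyp x) (hcomm : ∀ c ∈ centralizer ({x} : Set G), ∀ d ∈ centralizer ({x} : Set G), c * d = d * c)
    (hN5 : ¬ 5 ^ 5 ∣ Nat.card (normalizer ((zpowers x : Subgroup G) : Set G))) {b e : ℕ} (hb0 : b ≠ 0)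
    (hb1 : 5 ^ b ∣ Nat.card (centralizer ({x} : Set G))) (hb2 : ¬ 5 ^ (b + 1) ∣ Nat.card (centralizer ({x} : Set G)))
    (hN : Nat.card (normalizer ((zpowers x : Subgroup G) : Set G)) = Nat.card (centralizer ({x} : Set G)) * e)
    (he : ¬ 3 ∣ e) (h3 : 3 ∣ Nat.card (centralizer ({x} : Set G)))
    (hC3 : ¬ 3 ^ 3 ∣ Nat.card (centralizer ({x} : Set G))) : False := by
  have h3f : Fact (Nat.Prime 3) := ⟨Nat.prime_three⟩
  set C := centralizer ({x} : Set G) with hCd
  set N := normalizer ((zpowers x : Subgroup G) : Set G) with hNd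
  obtain ⟨P, hP, hPc⟩ := exists_P hb1
  obtain ⟨u, hu, huo⟩ := exists_u hPc hb0
  obtain ⟨m, t, -, hm, ht, ht1⟩ := H.five_step hcomm hN5 hP hPc hb2 hu huo
  have hmN : m ∈ N := mem_norm_of hm
  -- the elements of order 3 of `C`
  let E : Subgroup G :=
    { carrier := {c | c ∈ C ∧ c ^ 3 = 1}
      one_mem' := ⟨C.one_mem, one_pow 3⟩
      mul_mem' := by
        rintro a b ⟨ha, ha3⟩ ⟨hb, hb3⟩
        exact ⟨C.mul_mem ha hb, by rw [(show Commute a b from hcomm a ha b hb).mul_pow, ha3, hb3, one_mul]⟩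
      inv_mem' := by
        rintro a ⟨ha, ha3⟩
        exact ⟨C.inv_mem ha, by rw [inv_pow, ha3, inv_one]⟩ }
  have hEC : E ≤ C := fun a ha => ha.1
  have hE3 : IsPGroup 3 E := fun a => ⟨1, Subtype.ext (by rw [pow_one]; exact a.2.2)⟩
  obtain ⟨v, hv⟩ := IsPGroup.iff_card.1 hE3
  have hv2 : v ≤ 2 := by
    by_contra hcon
    apply hC3
    refine (pow_dvd_pow 3 (by omega : 3 ≤ v)).trans ?_
    rw [← hv]
    exact card_dvd_of_le hEC
  have hEn : ∀ g ∈ N, ∀ a ∈ E, g * a * g⁻¹ ∈ E := fun g hg a ha =>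
    ⟨conj_mem_cent hg ha.1, by rw [conj_pow, ha.2, mul_one, mul_inv_cancel]⟩
  have hNE : N ≤ normalizer (E : Set G) := by
    intro g hg
    rw [mem_normalizer_iff]
    intro a
    constructor
    · exact hEn g hg a
    · intro ha
      have h1 := hEn g⁻¹ (inv_mem hg) _ ha
      have h2 : g⁻¹ * (g * a * g⁻¹) * g⁻¹⁻¹ = a := by group
      rwa [h2] at h1
  have hm5 : m ^ 5 ∈ C := by
    have h4 : ∀ n : ℕ, m ^ n * x * (m ^ n)⁻¹ = x ^ t ^ n := by
      intro n
      induction n with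
      | zero => simp
      | succ n ih =>
        calc m ^ (n + 1) * x * (m ^ (n + 1))⁻¹ = m * (m ^ n * x * (m ^ n)⁻¹) * m⁻¹ := by rw [pow_succ']; group
          _ = (m * x * m⁻¹) ^ t ^ n := by rw [ih, conj_pow]
          _ = x ^ t ^ (n + 1) := by rw [hm, ← pow_mul, pow_succ']
    rw [hCd, mem_centralizer_singleton_iff]
    have h6 := h4 5
    have h7 : x ^ t ^ 5 = x := by
      rw [← pow_mod_orderOf, H.hx, ht, pow_one]
    rw [h7] at h6
    exact mul_inv_eq_iff_eq_mul.1 h6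
  have hmE : ∀ a ∈ E, m * a = a * m := by
    have h5f : Fact (Nat.Prime 5) := ⟨Nat.prime_five⟩
    have hcond : Cfsg.Agent.H961.PrimeSection.Cond 5 (3 ^ v) := by
      intro s i hs hsr hi hd
      have h5 : s = 3 := (Nat.prime_dvd_prime_iff_eq hs Nat.prime_three).1
        (hs.dvd_of_dvd_pow ((dvd_pow_self s (by omega)).trans hd))
      subst h5
      have hiv : i ≤ v := (Nat.pow_dvd_pow_iff_le_right (by norm_num)).1 hd
      have hi2 : i ≤ 2 := hiv.trans hv2
      interval_cases i <;> norm_num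
    set φ : MulAut E := Subgroup.normalizerMonoidHom E ⟨m, hNE hmN⟩ with hφ
    have hφ5 : φ ^ 5 = 1 := by
      rw [hφ, ← map_pow]
      have h1 : (⟨m, hNE hmN⟩ : normalizer (E : Set G)) ^ 5 ∈ (Subgroup.normalizerMonoidHom E).ker := by
        rw [Subgroup.normalizerMonoidHom_ker, Subgroup.mem_subgroupOf, mem_centralizer_iff]
        intro a ha
        exact (hcomm _ hm5 a (hEC ha)).symm
      exact h1
    have h1 := Cfsg.Agent.H961.PrimeSection.aut_eq_one Nat.prime_three (by norm_num) hv hcond hφ5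
    intro a ha
    have h2 : (⟨m, hNE hmN⟩ : normalizer (E : Set G)) ∈ (Subgroup.normalizerMonoidHom E).ker := h1
    rw [Subgroup.normalizerMonoidHom_ker, Subgroup.mem_subgroupOf, mem_centralizer_iff] at h2
    exact (h2 a ha).symm
  have hall : ∀ y ∈ C, orderOf y = 3 → centralizer ({y} : Set G) ≤ N := by
    intro y hy hyo
    exact H.le_norm (Or.inl hyo) (mem_centralizer_singleton_iff.1 hy).symm
      (hmE y ⟨hy, by rw [← hyo, pow_orderOf_eq_one]⟩) hm ht ht1
  -- a Sylow 3-subgroup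
  obtain ⟨y, hy⟩ := exists_prime_orderOf_dvd_card' (G := C) 3 h3
  have hyo : orderOf (y : G) = 3 := by rw [Subgroup.orderOf_coe, hy]
  obtain ⟨S, hS⟩ := (IsPGroup.of_card (n := 1) (by rw [Nat.card_zpowers, hyo, pow_one]) :
    IsPGroup 3 (zpowers (y : G))).exists_le_sylow
  have hSne : (S : Subgroup G) ≠ ⊥ := fun h => by
    have h1 := hS (mem_zpowers _)
    rw [h, mem_bot] at h1
    rw [h1, orderOf_one] at hyo
    norm_num at hyo
  obtain ⟨w, hwS, hwo, hwc⟩ := Cfsg.Agent.H58.Cop.exists_center_order S.2 hSne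
  have hwN : w ∈ N := hall y y.2 hyo (mem_centralizer_singleton_iff.2 (hwc y (hS (mem_zpowers _))).symm)
  have hle : C ≤ N := cent_le_norm
  have hCn : (C.subgroupOf N).Normal := ⟨fun c hc g => conj_mem_cent g.2 hc⟩
  have hidx : (C.subgroupOf N).index = e := by
    have h1 := (C.subgroupOf N).card_mul_index
    rw [Nat.card_congr (subgroupOfEquivOfLe hle).toEquiv, hN] at h1
    exact Nat.eq_of_mul_eq_mul_left Nat.card_pos h1
  have hwC : w ∈ C := by
    have h1 : (⟨w, hwN⟩ : N) ^ e ∈ C.subgroupOf N := by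
      rw [← hidx]
      exact (C.subgroupOf N).pow_index_mem _
    have h2 : (⟨w, hwN⟩ : N) ∈ C.subgroupOf N := by
      refine mem_of_pow h1 ?_
      rw [Subgroup.orderOf_mk, hwo]
      exact (Nat.prime_three.coprime_iff_not_dvd).2 he
    exact h2
  have h4 : (S : Subgroup G) ≤ N := fun s hs => hall w hwC hwo (mem_centralizer_singleton_iff.2 (hwc s hs))
  have h5 : 3 ^ 3 ∣ Nat.card C * e := by
    rw [← hN]
    refine Dvd.dvd.trans ?_ (card_dvd_of_le h4)
    rw [Sylow.card_eq_multiplicity]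
    exact pow_dvd_pow 3 ((Nat.prime_three.pow_dvd_iff_le_factorization Nat.card_pos.ne').1 H.s3)
  exact hC3 ((Nat.Coprime.pow_left 3 ((Nat.prime_three.coprime_iff_not_dvd).2 he)).dvd_of_dvd_mul_right h5)

end Hyp

end Cfsg.Agent.H241.Deg
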