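import Mathlib

/-!
# A group `41 : 5` on a small 3-group (helper241; degrees, row `M`)

`commute_of_small` : `R` a normal 3-subgroup of `Y`, `|R| < 3 ^ 40`, `x ^ 41 = 1` and `m x m⁻¹ = x ^ t`, `t` of order 5
modulo 41: then `x` centralizes `R`.
-/

set_option autoImplicit false

namespace Cfsg.Agent.H241.Deg

open Polynomial

theorem all_pow : ∀ s : Fin 41, s.val ^ 5 % 41 = 1 → s.val ≠ 1 → ∀ k : Fin 41, k.val ≠ 0 →
    ∃ i : Fin 8, ∃ j : Fin 5, 3 ^ i.val * s.val ^ j.val % 41 = k.val := by decide +kernel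

/-- the linear case -/
theorem lin {V : Type*} [AddCommGroup V] [Module (ZMod 3) V] [Module.Finite (ZMod 3) V]
    (hd : Module.finrank (ZMod 3) V < 40) {A B B' : Module.End (ZMod 3) V} (hA : A ^ 41 = 1) (hB' : B' * B = 1)
    (hB : B * B' = 1) {t : ℕ} (h : B * A * B' = A ^ t) (ht : t ^ 5 % 41 = 1) (ht1 : t % 41 ≠ 1) : A = 1 := by
  have : Fact (Nat.Prime 3) := ⟨Nat.prime_three⟩
  have : Fact (Nat.Prime 41) := ⟨by norm_num⟩
  by_contra hne
  classical
  let K := AlgebraicClosure (ZMod 3)
  have hchar : CharP K 3 := by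
    have : CharP (ZMod 3) 3 := inferInstance
    exact charP_of_injective_algebraMap (algebraMap (ZMod 3) K).injective 3
  set m := minpoly (ZMod 3) A with hm
  have hint : IsIntegral (ZMod 3) A := Algebra.IsIntegral.isIntegral A
  have hm0 : m ≠ 0 := minpoly.ne_zero hint
  have hdeg : m.natDegree < 40 := by
    refine lt_of_le_of_lt ?_ hd
    rw [← LinearMap.charpoly_natDegree A]
    exact natDegree_le_of_dvd (LinearMap.minpoly_dvd_charpoly A) (LinearMap.charpoly_monic A).ne_zero
  have h41 : m ∣ X ^ 41 - 1 := by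
    refine minpoly.dvd _ _ ?_
    rw [map_sub, map_pow, aeval_X, map_one, hA, sub_self]
  -- `m` divides `m (X ^ t)`
  have hconj : ∀ f : (ZMod 3)[X], B * aeval A f * B' = aeval (A ^ t) f := by
    intro f
    induction f using Polynomial.induction_on' with
    | add p q hp hq => rw [map_add, map_add, mul_add, add_mul, hp, hq]
    | monomial n a =>
      rw [aeval_monomial, aeval_monomial, ← h]
      have h1 : ∀ n : ℕ, (B * A * B') ^ n = B * A ^ n * B' := by
        intro n
        induction n with
        | zero => rw [pow_zero, pow_zero, mul_one, hB]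
        | succ n ih =>
          rw [pow_succ, ih, pow_succ]
          calc B * A ^ n * B' * (B * A * B') = B * A ^ n * (B' * B) * A * B' := by noncomm_ring
            _ = B * (A ^ n * A) * B' := by rw [hB', mul_one]; noncomm_ring
      have h2 : B * (algebraMap (ZMod 3) (Module.End (ZMod 3) V)) a = (algebraMap (ZMod 3) (Module.End (ZMod 3) V)) a * B :=
        (Algebra.commutes a B).symm
      rw [h1, ← mul_assoc, h2]
      noncomm_ring
  have hexp : m ∣ expand (ZMod 3) t m := by
    refine minpoly.dvd _ _ ?_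
    rw [expand_aeval, ← hconj, hm, minpoly.aeval, mul_zero, zero_mul]
  -- the roots
  have r1 : ∀ l : K, aeval l m = 0 → l ^ 41 = 1 := by
    intro l hl
    obtain ⟨q, hq⟩ := h41
    have h1 := congrArg (aeval l) hq
    rw [map_mul, hl, zero_mul, map_sub, map_pow, aeval_X, map_one] at h1
    exact sub_eq_zero.1 h1
  have r3 : ∀ l : K, aeval l m = 0 → aeval (l ^ 3) m = 0 := by
    intro l hl
    rw [← expand_aeval, ZMod.expand_card, map_pow, hl]
    exact zero_pow three_ne_zero
  have rt : ∀ l : K, aeval l m = 0 → aeval (l ^ t) m = 0 := by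
    intro l hl
    obtain ⟨q, hq⟩ := hexp
    rw [← expand_aeval, hq, map_mul, hl, zero_mul]
  have r3' : ∀ (l : K) (i : ℕ), aeval l m = 0 → aeval (l ^ 3 ^ i) m = 0 := by
    intro l i hl
    induction i with
    | zero => rwa [pow_zero, pow_one]
    | succ i ih =>
      rw [pow_succ, pow_mul]
      exact r3 _ ih
  have rt' : ∀ (l : K) (i : ℕ), aeval l m = 0 → aeval (l ^ t ^ i) m = 0 := by
    intro l i hl
    induction i with
    | zero => rwa [pow_zero, pow_one]
    | succ i ih =>
      rw [pow_succ, pow_mul]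
      exact rt _ ih
  -- a root different from 1
  obtain ⟨l, hl, hl1⟩ : ∃ l : K, aeval l m = 0 ∧ l ≠ 1 := by
    by_contra hcon
    push Not at hcon
    apply hne
    have hgs : (X - 1) * ∑ i ∈ Finset.range 41, (X : (ZMod 3)[X]) ^ i = X ^ 41 - 1 := mul_geom_sum X 41
    have hcop : IsCoprime m (∑ i ∈ Finset.range 41, (X : (ZMod 3)[X]) ^ i) := by
      refine (isCoprime_iff_aeval_ne_zero_of_isAlgClosed (ZMod 3) K _ _).2 fun a => ?_
      by_cases ha : aeval a m = 0
      · right
        rw [hcon a ha, map_sum]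
        simp only [map_pow, aeval_X, one_pow, Finset.sum_const, Finset.card_range, nsmul_eq_mul, mul_one]
        intro h1
        have h2 := (CharP.cast_eq_zero_iff K 3 41).1 h1
        norm_num at h2
      · exact Or.inl ha
    have h2 : m ∣ X - 1 := by
      refine hcop.dvd_of_dvd_mul_right ?_
      rw [hgs]
      exact h41
    obtain ⟨q, hq⟩ := h2
    have h3 := congrArg (aeval A) hq
    rw [map_mul, hm, minpoly.aeval, zero_mul, map_sub, aeval_X, map_one] at h3
    exact sub_eq_zero.1 h3
  have hord : orderOf l = 41 := orderOf_eq_prime (r1 l hl) hl1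
  have hmod : ∀ n : ℕ, l ^ n = l ^ (n % 41) := fun n => by rw [← hord, pow_mod_orderOf]
  have hall : ∀ k < 41, k ≠ 0 → aeval (l ^ k) m = 0 := by
    intro k hk hk0
    obtain ⟨i, j, hij⟩ := all_pow ⟨t % 41, Nat.mod_lt _ (by norm_num)⟩ (by
      show (t % 41) ^ 5 % 41 = 1
      rw [← Nat.pow_mod, ht]) ht1 ⟨k, hk⟩ hk0
    have hij' : 3 ^ (i : ℕ) * (t % 41) ^ (j : ℕ) % 41 = k := hij
    have h1 := rt' _ j (r3' l i hl)
    rw [← pow_mul, hmod, Nat.mul_mod, Nat.pow_mod t, ← Nat.mul_mod, hij'] at h1
    exact h1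
  -- forty roots
  have hsub : (Finset.Icc 1 40).image (fun k => l ^ k) ⊆ (m.aroots K).toFinset := by
    intro a ha
    obtain ⟨k, hk, rfl⟩ := Finset.mem_image.1 ha
    rw [Finset.mem_Icc] at hk
    rw [Multiset.mem_toFinset, mem_aroots]
    exact ⟨hm0, hall k (by omega) (by omega)⟩
  have hinj : Set.InjOn (fun k => l ^ k) (Finset.Icc 1 40 : Finset ℕ) := by
    intro a ha b hb hab
    rw [Finset.coe_Icc, Set.mem_Icc] at ha hb
    exact pow_injOn_Iio_orderOf (by rw [Set.mem_Iio, hord]; omega) (by rw [Set.mem_Iio, hord]; omega) hab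
  have h5 := Finset.card_le_card hsub
  rw [Finset.card_image_of_injOn hinj, Nat.card_Icc] at h5
  have h6 := (Multiset.toFinset_card_le (m.aroots K)).trans (card_roots' _)
  rw [natDegree_map] at h6
  omega

open Subgroup

/-- the elementary abelian case -/
theorem commute_of_elem {Y : Type*} [Group Y] [Finite Y] (Z : Subgroup Y) [hZ : Z.Normal] (hc : ∀ a ∈ Z, ∀ b ∈ Z, a * b = b * a)
    (h3 : ∀ a ∈ Z, a ^ 3 = 1) (hcard : Nat.card Z < 3 ^ 40) {x m : Y} (hx : x ^ 41 = 1) {t : ℕ}
    (hm : m * x * m⁻¹ = x ^ t) (ht : t ^ 5 % 41 = 1) (ht1 : t % 41 ≠ 1) : ∀ r ∈ Z, x * r = r * x := by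
  have : Fact (Nat.Prime 3) := ⟨Nat.prime_three⟩
  let _ : CommGroup Z := { (inferInstance : Group Z) with
    mul_comm := fun a b => Subtype.ext (hc a a.2 b b.2) }
  let _ : Module (ZMod 3) (Additive Z) := AddCommGroup.zmodModule (n := 3) fun a => by
    apply Additive.toMul.injective
    rw [toMul_nsmul]
    exact Subtype.ext (h3 _ (Additive.toMul a).2)
  have hfin : Finite (Additive Z) := inferInstanceAs (Finite Z)
  have hfm : Module.Finite (ZMod 3) (Additive Z) := Module.Finite.of_finite
  let f : Y →* Module.End (ZMod 3) (Additive Z) :=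
    { toFun := fun y => (MonoidHom.toAdditive (MulAut.conjNormal y : MulAut Z).toMonoidHom).toZModLinearMap 3
      map_one' := by
        refine LinearMap.ext fun a => ?_
        apply Additive.toMul.injective
        show MulAut.conjNormal (1 : Y) (Additive.toMul a) = Additive.toMul a
        rw [map_one]
        rfl
      map_mul' := fun y z => by
        refine LinearMap.ext fun a => ?_
        apply Additive.toMul.injective
        show MulAut.conjNormal (y * z : Y) (Additive.toMul a) = MulAut.conjNormal y (MulAut.conjNormal z (Additive.toMul a))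
        rw [map_mul]
        rfl }
  have hf : f x = 1 := by
    refine lin (B := f m) (B' := f m⁻¹) ?_ ?_ ?_ ?_ ?_ ht ht1
    · have h1 := Module.natCard_eq_pow_finrank (K := ZMod 3) (V := Additive Z)
      rw [Nat.card_zmod] at h1
      have h2 : Nat.card (Additive Z) = Nat.card Z := rfl
      rw [h2] at h1
      rw [h1] at hcard
      exact (Nat.pow_lt_pow_iff_right (by norm_num)).1 hcard
    · rw [← map_pow, hx, map_one]
    · rw [← map_mul, inv_mul_cancel, map_one]
    · rw [← map_mul, mul_inv_cancel, map_one]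
    · rw [← map_mul, ← map_mul, hm, map_pow]
  intro r hr
  have h1 := congrArg (fun g : Module.End (ZMod 3) (Additive Z) => ((Additive.toMul (g (Additive.ofMul (⟨r, hr⟩ : Z))) : Z) : Y)) hf
  have h2 : x * r * x⁻¹ = r := h1
  exact mul_inv_eq_iff_eq_mul.1 h2

/-- **The action on a small 3-group.** -/
theorem commute_of_small : ∀ (n : ℕ) {Y : Type*} [Group Y] [Finite Y] (R : Subgroup Y) [R.Normal], Nat.card R ≤ n →
    IsPGroup 3 R → Nat.card R < 3 ^ 40 → ∀ {x m : Y}, x ^ 41 = 1 → ∀ {t : ℕ}, m * x * m⁻¹ = x ^ t → t ^ 5 % 41 = 1 →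
    t % 41 ≠ 1 → ∀ r ∈ R, x * r = r * x := by
  have hp : Fact (Nat.Prime 3) := ⟨Nat.prime_three⟩
  intro n
  induction n with
  | zero =>
    intro Y _ _ R _ hn
    exact absurd (Nat.card_pos (α := R)) (by omega)
  | succ n ih =>
    intro Y _ _ R hR hn hR3 hcard x m hx t hm ht ht1
    by_cases hbot : R = ⊥
    · intro r hr
      rw [hbot, mem_bot] at hr
      rw [hr, mul_one, one_mul]
    -- the subgroup `Z`
    let Z : Subgroup Y :=
      { carrier := {z | z ∈ R ∧ (∀ r ∈ R, z * r = r * z) ∧ z ^ 3 = 1}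
        one_mem' := ⟨R.one_mem, fun r _ => by rw [one_mul, mul_one], one_pow 3⟩
        mul_mem' := by
          rintro a b ⟨ha, hac, ha3⟩ ⟨hb, hbc, hb3⟩
          refine ⟨R.mul_mem ha hb, fun r hr => ?_, ?_⟩
          · rw [mul_assoc, hbc r hr, ← mul_assoc, hac r hr, mul_assoc]
          · rw [(show Commute a b from hac b hb).mul_pow, ha3, hb3, one_mul]
        inv_mem' := by
          rintro a ⟨ha, hac, ha3⟩
          refine ⟨R.inv_mem ha, fun r hr => ?_, by rw [inv_pow, ha3, inv_one]⟩
          exact ((show Commute a r from hac r hr).inv_left).eq }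
    have hZR : Z ≤ R := fun z hz => hz.1
    have hZn : Z.Normal := by
      refine ⟨fun z hz g => ⟨hR.conj_mem z hz.1 g, fun r hr => ?_, ?_⟩⟩
      · have h1 : g⁻¹ * r * g ∈ R := by
          have := hR.conj_mem r hr g⁻¹
          rwa [inv_inv] at this
        have h2 := hz.2.1 _ h1
        calc g * z * g⁻¹ * r = g * (z * (g⁻¹ * r * g)) * g⁻¹ := by group
          _ = g * (g⁻¹ * r * g * z) * g⁻¹ := by rw [h2]
          _ = r * (g * z * g⁻¹) := by group
      · rw [conj_pow, hz.2.2, mul_one, mul_inv_cancel]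
    have hZ1 : Z ≠ ⊥ := by
      have hnt : Nontrivial R := (Subgroup.nontrivial_iff_ne_bot R).2 hbot
      have hcn : Nontrivial (center R) := hR3.center_nontrivial
      have hpc : IsPGroup 3 (center R) := hR3.to_subgroup _
      obtain ⟨k, hk⟩ := IsPGroup.iff_card.1 hpc
      have hk0 : k ≠ 0 := by
        rintro rfl
        rw [pow_zero] at hk
        have := Finite.one_lt_card (α := center R)
        omega
      obtain ⟨y, hy⟩ := exists_prime_orderOf_dvd_card' (G := center R) 3 (by rw [hk]; exact dvd_pow_self 3 hk0)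
      intro hZb
      have h1 : ((y : R) : Y) ∈ Z := by
        refine ⟨(y : R).2, fun r hr => ?_, ?_⟩
        · exact (congrArg Subtype.val (Subgroup.mem_center_iff.1 y.2 ⟨r, hr⟩)).symm
        · have h2 : ((y : R) : Y) ^ 3 = (((y ^ 3 : center R) : R) : Y) := rfl
          rw [h2, ← hy, pow_orderOf_eq_one]
          rfl
      rw [hZb, mem_bot] at h1
      have h3 : y = 1 := Subtype.ext (Subtype.ext h1)
      rw [h3, orderOf_one] at hy
      norm_num at hy
    -- `x` centralizes `Z`
    have hxZ : ∀ z ∈ Z, x * z = z * x :=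
      commute_of_elem Z (fun a ha b hb => ha.2.1 b hb.1) (fun a ha => ha.2.2)
        (lt_of_le_of_lt (Nat.le_of_dvd Nat.card_pos (card_dvd_of_le hZR)) hcard) hx hm ht ht1
    -- the quotient
    let q := QuotientGroup.mk' Z
    have hq : Function.Surjective q := QuotientGroup.mk'_surjective Z
    have hRn : (R.map q).Normal := hR.map q hq
    have hcq : Nat.card (R.map q) * Nat.card Z = Nat.card R := by
      have h1 : Nat.card (R.map q) = Z.relIndex R := by
        rw [← Subgroup.relIndex_ker, QuotientGroup.ker_mk']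
      rw [h1, mul_comm]
      have := Subgroup.relIndex_mul_relIndex ⊥ Z R bot_le hZR
      rwa [Subgroup.relIndex_bot_left, Subgroup.relIndex_bot_left] at this
    have hZc : 1 < Nat.card Z := by
      have := (Subgroup.nontrivial_iff_ne_bot Z).2 hZ1
      exact Finite.one_lt_card
    have hlt : Nat.card (R.map q) < Nat.card R := by
      rw [← hcq]
      have : 0 < Nat.card (R.map q) := Nat.card_pos
      nlinarith
    have hxq := ih (R.map q) (by omega) (hR3.map q) (hlt.trans hcard) (x := q x) (m := q m)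
      (by rw [← map_pow, hx, map_one]) (t := t) (by rw [← map_inv, ← map_mul, ← map_mul, hm, map_pow]) ht ht1
    intro r hr
    have h1 := hxq (q r) ⟨r, hr, rfl⟩
    rw [← map_mul, ← map_mul] at h1
    have h2 : r⁻¹ * (x * r * x⁻¹) ∈ Z := by
      have h3 : q (r⁻¹ * (x * r * x⁻¹)) = 1 := by
        rw [map_mul, map_mul, h1, ← map_mul, ← map_mul]
        have h4 : r⁻¹ * (r * x * x⁻¹) = 1 := by group
        rw [h4, map_one]
      rwa [← MonoidHom.mem_ker, QuotientGroup.ker_mk'] at h3
    set z := r⁻¹ * (x * r * x⁻¹) with hz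
    have h3 : x * r * x⁻¹ = r * z := by rw [hz, mul_inv_cancel_left]
    have h4 : ∀ k : ℕ, x ^ k * r * (x ^ k)⁻¹ = r * z ^ k := by
      intro k
      induction k with
      | zero => simp
      | succ k ihk =>
        have h5 : x * z ^ k = z ^ k * x := ((show Commute x z from hxZ z h2).pow_right k).eq
        calc x ^ (k + 1) * r * (x ^ (k + 1))⁻¹ = x * (x ^ k * r * (x ^ k)⁻¹) * x⁻¹ := by rw [pow_succ']; group
          _ = x * (r * z ^ k) * x⁻¹ := by rw [ihk]
          _ = (x * r * x⁻¹) * (x * z ^ k * x⁻¹) := by group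
          _ = (r * z) * (z ^ k * x * x⁻¹) := by rw [h3, h5]
          _ = r * z ^ (k + 1) := by rw [pow_succ']; group
    have h5 := h4 41
    rw [hx, one_mul, inv_one, mul_one] at h5
    have h6 : z ^ 41 = 1 := by
      have : r * z ^ 41 = r * 1 := by rw [← h5, mul_one]
      exact mul_left_cancel this
    have h7 : z ^ 3 = 1 := h2.2.2
    have h8 : z = 1 := by
      calc z = (z ^ 3) ^ 14 * (z ^ 41)⁻¹ := by group
        _ = 1 := by rw [h6, h7, one_pow, inv_one, mul_one]
    rw [h8, mul_one] at h3
    exact mul_inv_eq_iff_eq_mul.1 h3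

end Cfsg.Agent.H241.Deg
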