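import Cfsg.Agent.H241.Deg.LinMod
import Cfsg.Agent.H438.Fpr.LemB
import Cfsg.Agent.Lib.BenderMaximal

/-!
# Local analysis with an element of order 41 (helper241; degrees, row `M`)
-/

set_option autoImplicit false

namespace Cfsg.Agent.H241.Deg

open Subgroup Cfsg Cfsg.Agent.H438.Fpr.LemB Cfsg.Agent.H995.CopEngine Cfsg.Agent.Lib
open scoped Pointwise

universe u

theorem centralizer_zpowers {G : Type*} [Group G] (x : G) :
    centralizer ((zpowers x : Subgroup G) : Set G) = centralizer ({x} : Set G) := by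
  ext g
  rw [mem_centralizer_iff, mem_centralizer_singleton_iff]
  constructor
  · intro h
    exact (h x (mem_zpowers x)).symm
  · rintro h _ ⟨i, rfl⟩
    exact ((show Commute x g from h.symm).zpow_left i).eq

/-- the `q`-part of the normalizer of `⟨x⟩` -/
theorem norm_part {X : Type u} [Group X] [Finite X] {p : ℕ} (hp : p.Prime) (h2 : ¬ p ^ 2 ∣ Nat.card X) {x : X}
    (hx : orderOf x = p) (hN : Nice p X) {q k : ℕ} (hq : q.Prime) (hqp : q ≠ p)
    (hc : ∀ i, 1 ≤ i → q ^ i ∣ Nat.card X → ¬ p ∣ q ^ i - 1) (hk : q ^ k ∣ Nat.card X) :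
    q ^ k ∣ Nat.card (normalizer ((zpowers x : Subgroup X) : Set X)) := by
  have hpf := Fact.mk hp
  obtain ⟨K, hK, hpK, hPK⟩ := hN
  have hidx : ¬ p ∣ (zpowers x).index := by
    intro h1
    apply h2
    rw [← (zpowers x).card_mul_index, Nat.card_zpowers, hx, pow_two]
    exact Nat.mul_dvd_mul_left p h1
  have hpg : IsPGroup p (zpowers x) := IsPGroup.of_card (n := 1) (by rw [Nat.card_zpowers, hx, pow_one])
  let P : Sylow p X := hpg.toSylow hidx
  have hPx : (P : Subgroup X) = zpowers x := rfl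
  have hT := hPK P
  set T : Subgroup X := (P : Subgroup X) ⊔ K with hTdef
  have hPT : (P : Subgroup X) ≤ T := le_sup_left
  set N : Subgroup X := normalizer ((P : Subgroup X) : Set X) with hNdef
  -- Frattini
  have hF : N ⊔ K = ⊤ := by
    have h3 := Sylow.normalizer_sup_eq_top (P.subtype hPT)
    have h4 : ((P.subtype hPT : Sylow p T) : Subgroup T).map T.subtype = (P : Subgroup X) := by
      rw [Sylow.coe_subtype, subgroupOf_map_subtype, inf_eq_left.2 hPT]
    rw [h4] at h3
    rw [eq_top_iff, ← h3]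
    refine sup_le le_sup_left ?_
    rw [hTdef]
    exact sup_le (le_trans le_normalizer le_sup_left) le_sup_right
  -- the orders
  have e1 : K.index = K.relIndex N := by
    rw [← relIndex_top_right, ← hF, sup_comm, relIndex_sup_left]
  have e2 : Nat.card X * Nat.card ↥(K ⊓ N) = Nat.card K * Nat.card N := by
    have h5 : Nat.card ↥(K ⊓ N) * K.relIndex N = Nat.card N := by
      have h6 := (K.subgroupOf N).card_mul_index
      rw [← Subgroup.relIndex] at h6
      rw [← h6]
      congr 1
      rw [← card_map_of_injective N.subtype_injective, subgroupOf_map_subtype]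
    rw [← K.card_mul_index, e1, ← h5]
    ring
  -- `K ∩ N` centralizes `x`
  have e3 : K ⊓ centralizer ({x} : Set X) ≤ K ⊓ N := by
    refine inf_le_inf_left _ fun g hg => ?_
    have h3 : centralizer ((zpowers x : Subgroup X) : Set X) ≤ N := by
      rw [hNdef, hPx]
      exact centralizer_le_normalizer _
    refine h3 ?_
    rw [mem_centralizer_iff]
    rintro _ ⟨j, rfl⟩
    exact ((show Commute g x from mem_centralizer_singleton_iff.1 hg).zpow_right j).eq.symm
  have hx1 : x ^ p = 1 := by rw [← hx, pow_orderOf_eq_one]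
  -- the `q`-parts
  have hqf := Fact.mk hq
  have v1 : ∀ j, q ^ j ∣ Nat.card K → q ^ j ∣ Nat.card ↥(K ⊓ N) := fun j hj => by
    have h7 := pow_dvd_cent hp K hpK hx1 hq hqp hj (fun i hi h => hc i hi (h.trans (card_subgroup_dvd_card K)))
    exact h7.trans (card_dvd_of_le e3)
  have c0 : ∀ H : Subgroup X, Nat.card H ≠ 0 := fun H => Nat.card_pos.ne'
  have hX0 : Nat.card X ≠ 0 := Nat.card_pos.ne'
  rw [hq.pow_dvd_iff_le_factorization (c0 _)]
  have h8 := congrArg (fun n => n.factorization q) e2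
  simp only [Nat.factorization_mul hX0 (c0 _), Nat.factorization_mul (c0 K) (c0 N), Finsupp.add_apply] at h8
  have h9 := (hq.pow_dvd_iff_le_factorization hX0).1 hk
  have h10 := (hq.pow_dvd_iff_le_factorization (c0 (K ⊓ N))).1 (v1 _ (Nat.ordProj_dvd (Nat.card K) q))
  rw [← hPx, ← hNdef]
  omega

/-- **An element of order 5 modulo the centralizer.** -/
theorem exists_five {X : Type u} [Group X] [Finite X] (h2 : ¬ 41 ^ 2 ∣ Nat.card X) {x : X}
    (hx : orderOf x = 41) (hN : Nice 41 X) {k : ℕ}
    (hc : ∀ i, 1 ≤ i → 5 ^ i ∣ Nat.card X → ¬ 41 ∣ 5 ^ i - 1) (hk : 5 ^ k ∣ Nat.card X)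
    (hk' : ¬ 5 ^ k ∣ Nat.card (centralizer ({x} : Set X))) :
    ∃ (m : X) (t : ℕ), m * x * m⁻¹ = x ^ t ∧ t ^ 5 % 41 = 1 ∧ t % 41 ≠ 1 := by
  have h5f : Fact (Nat.Prime 5) := ⟨Nat.prime_five⟩
  have hxN := norm_part (by norm_num) h2 hx hN Nat.prime_five (by norm_num) hc hk
  set N := normalizer ((zpowers x : Subgroup X) : Set X) with hNdef
  obtain ⟨Q⟩ : Nonempty (Sylow 5 N) := inferInstance
  have hQc : 5 ^ k ∣ Nat.card (Q : Subgroup N) := by
    rw [Sylow.card_eq_multiplicity]
    exact pow_dvd_pow 5 ((Nat.prime_five.pow_dvd_iff_le_factorization Nat.card_pos.ne').1 hxN)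
  have hnle : ¬ (Q : Subgroup N).map N.subtype ≤ centralizer ({x} : Set X) := by
    intro hle
    apply hk'
    refine (hQc.trans ?_).trans (card_dvd_of_le hle)
    rw [card_map_of_injective N.subtype_injective]
  obtain ⟨_, ⟨g, hgQ, rfl⟩, hgc⟩ := SetLike.not_le_iff_exists.1 hnle
  rw [mem_centralizer_singleton_iff] at hgc
  obtain ⟨j, hj⟩ := Q.2 ⟨g, hgQ⟩
  have hj' : ((g : N) : X) ^ 5 ^ j = 1 := congrArg (fun a : (Q : Subgroup N) => ((a : N) : X)) hj
  have h3 : (g : X) * x * (g : X)⁻¹ ∈ zpowers x := (mem_normalizer_iff.1 g.2 x).1 (mem_zpowers x)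
  rw [← mem_powers_iff_mem_zpowers] at h3
  obtain ⟨t, ht⟩ := h3
  have ht' : (g : X) * x * (g : X)⁻¹ = x ^ t := ht.symm
  have h4 : ∀ n : ℕ, (g : X) ^ n * x * ((g : X) ^ n)⁻¹ = x ^ t ^ n := by
    intro n
    induction n with
    | zero => simp
    | succ n ih =>
      calc (g : X) ^ (n + 1) * x * ((g : X) ^ (n + 1))⁻¹ = g * ((g : X) ^ n * x * ((g : X) ^ n)⁻¹) * (g : X)⁻¹ := by
            rw [pow_succ']; group
        _ = (g * x * (g : X)⁻¹) ^ t ^ n := by rw [ih, conj_pow]
        _ = x ^ t ^ (n + 1) := by rw [ht', ← pow_mul, pow_succ']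
  have h5 := h4 (5 ^ j)
  rw [hj', one_mul, inv_one, mul_one] at h5
  have h6 : t ^ 5 ^ j ≡ 1 [MOD 41] := by
    rw [← hx]
    exact (pow_eq_pow_iff_modEq.1 (by rw [← h5, pow_one])).symm.symm
  have hcop : Nat.Coprime t 41 := by
    by_contra hcon
    have h7 : 41 ∣ t := by
      by_contra h8
      exact hcon (((Nat.Prime.coprime_iff_not_dvd (by norm_num)).2 h8).symm)
    have h9 : t ^ 5 ^ j ≡ 0 [MOD 41] := by
      rw [Nat.modEq_zero_iff_dvd]
      exact h7.trans (dvd_pow_self t (pow_pos (by norm_num) j).ne')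
    have h10 := h9.symm.trans h6
    exact absurd h10 (by decide)
  have h40 : t ^ 40 ≡ 1 [MOD 41] := by
    have := Nat.ModEq.pow_totient hcop
    rwa [Nat.totient_prime (by norm_num)] at this
  have h11 : t ^ 5 ≡ 1 [MOD 41] := by
    have h12 : orderOf (ZMod.unitOfCoprime t hcop) ∣ 5 ^ j := by
      apply orderOf_dvd_of_pow_eq_one
      ext
      rw [Units.val_pow_eq_pow_val, ZMod.coe_unitOfCoprime, Units.val_one, ← Nat.cast_pow, ← Nat.cast_one]
      exact (ZMod.natCast_eq_natCast_iff _ _ _).2 h6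
    have h13 : orderOf (ZMod.unitOfCoprime t hcop) ∣ 40 := by
      apply orderOf_dvd_of_pow_eq_one
      ext
      rw [Units.val_pow_eq_pow_val, ZMod.coe_unitOfCoprime, Units.val_one, ← Nat.cast_pow, ← Nat.cast_one]
      exact (ZMod.natCast_eq_natCast_iff _ _ _).2 h40
    have h14 : orderOf (ZMod.unitOfCoprime t hcop) ∣ 5 := by
      obtain ⟨i, -, hi⟩ := (Nat.dvd_prime_pow Nat.prime_five).1 h12
      rw [hi] at h13 ⊢
      rcases Nat.lt_or_ge i 2 with h15 | h15
      · interval_cases i <;> norm_num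
      · exfalso
        have := (pow_dvd_pow 5 h15).trans h13
        norm_num at this
    have h15 := orderOf_dvd_iff_pow_eq_one.1 h14
    have h16 := congrArg Units.val h15
    rw [Units.val_pow_eq_pow_val, ZMod.coe_unitOfCoprime, Units.val_one, ← Nat.cast_pow, ← Nat.cast_one] at h16
    exact (ZMod.natCast_eq_natCast_iff _ _ _).1 h16
  refine ⟨g, t, ht', h11, fun h17 => hgc ?_⟩
  have h18 : x ^ t = x := by
    have h19 : t ≡ 1 [MOD 41] := h17
    rw [← hx] at h19
    have := pow_eq_pow_iff_modEq.2 h19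
    rwa [pow_one] at this
  rw [h18] at ht'
  exact mul_inv_eq_iff_eq_mul.1 ht'

/-- **`⟨x⟩` is normal.** -/
theorem normal_of_five {X : Type u} [Group X] [Finite X] (hs : Group.IsSolvable X) (h2 : ¬ 41 ^ 2 ∣ Nat.card X)
    (h3 : ¬ 3 ^ 40 ∣ Nat.card X)
    (hc : ∀ q, q.Prime → q ≠ 3 → q ≠ 41 → ∀ i, 1 ≤ i → q ^ i ∣ Nat.card X → ¬ 41 ∣ q ^ i - 1)
    {x m : X} (hx : orderOf x = 41) {t : ℕ} (hm : m * x * m⁻¹ = x ^ t) (ht : t ^ 5 % 41 = 1) (ht1 : t % 41 ≠ 1) :
    (zpowers x).Normal := by
  have h41 : Fact (Nat.Prime 41) := ⟨by norm_num⟩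
  have hx1 : x ^ 41 = 1 := by rw [← hx, pow_orderOf_eq_one]
  have hpn : (pCore 41 X).Normal := Cores.pCore_normal 41
  have hpp : IsPGroup 41 (pCore 41 X) := Cores.pCore_isPGroup 41
  by_cases hb : pCore 41 X = ⊥
  · exfalso
    have hcen : x ∈ centralizer (fittingSubgroup X : Set X) := by
      have h1 : ∀ q : Nat.Primes, (pCore (q : ℕ) X) ≤ centralizer ({x} : Set X) := by
        rintro ⟨q, hq⟩ r hr
        change r ∈ pCore q X at hr
        have hqf := Fact.mk hq
        have hqn : (pCore q X).Normal := Cores.pCore_normal q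
        have hqp : IsPGroup q (pCore q X) := Cores.pCore_isPGroup q
        rw [mem_centralizer_singleton_iff]
        by_cases hq41 : q = 41
        · subst hq41
          rw [hb, mem_bot] at hr
          rw [hr, one_mul, mul_one]
        by_cases hq3 : q = 3
        · subst hq3
          have h4 : Nat.card (pCore 3 X) < 3 ^ 40 := by
            obtain ⟨k, hk⟩ := IsPGroup.iff_card.1 hqp
            have h5 : 3 ^ k ∣ Nat.card X := hk ▸ card_subgroup_dvd_card _
            rw [hk]
            refine Nat.pow_lt_pow_right (by norm_num) ?_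
            by_contra hcon
            exact h3 ((pow_dvd_pow 3 (not_lt.1 hcon)).trans h5)
          exact (commute_of_small _ (pCore 3 X) le_rfl hqp h4 hx1 hm ht ht1 r hr).symm
        · obtain ⟨v, hv⟩ := IsPGroup.iff_card.1 hqp
          have hcond : Cfsg.Agent.H961.PrimeSection.Cond 41 (q ^ v) := by
            intro s i hs hsr hi hd
            have h5 : s = q := (Nat.prime_dvd_prime_iff_eq hs hq).1
              (hs.dvd_of_dvd_pow ((dvd_pow_self s (by omega)).trans hd))
            subst h5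
            refine hc s hs hq3 hq41 i hi (hd.trans ?_)
            rw [← hv]
            exact card_subgroup_dvd_card _
          have h6 := Cfsg.Agent.H961.PrimeSection.aut_eq_one hq hq41 hv hcond
            (φ := (MulAut.conjNormal x : MulAut (pCore q X))) (by rw [← map_pow, hx1, map_one])
          have h7 := congrArg (fun f : MulAut (pCore q X) => ((f ⟨r, hr⟩ : pCore q X) : X)) h6
          have h8 : x * r * x⁻¹ = r := by
            rw [← MulAut.conjNormal_apply x (⟨r, hr⟩ : pCore q X)]
            exact h7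
          exact (mul_inv_eq_iff_eq_mul.1 h8).symm
      rw [mem_centralizer_iff]
      intro y hy
      have h9 : fittingSubgroup X ≤ centralizer ({x} : Set X) := by
        rw [Cores.fittingSubgroup_eq_iSup_pCore]
        exact iSup_le h1
      exact mem_centralizer_singleton_iff.1 (h9 hy)
    have hxF : x ∈ fittingSubgroup X := Cfsg.Agent.S0044.result hcen
    have hxp : IsPGroup 41 (zpowers x) := IsPGroup.of_card (n := 1) (by rw [Nat.card_zpowers, hx, pow_one])
    have h10 := BenderMaximal.le_pCore_of_le_fittingSubgroup hxp ((zpowers_le).2 hxF)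
    rw [hb, le_bot_iff, zpowers_eq_bot] at h10
    rw [h10, orderOf_one] at hx
    norm_num at hx
  · have hcard : Nat.card (pCore 41 X) = 41 := by
      obtain ⟨k, hk⟩ := IsPGroup.iff_card.1 hpp
      have h4 : 41 ^ k ∣ Nat.card X := hk ▸ card_subgroup_dvd_card _
      have hk2 : k < 2 := by
        by_contra hcon
        exact h2 ((pow_dvd_pow 41 (not_lt.1 hcon)).trans h4)
      interval_cases k
      · rw [pow_zero] at hk
        exact absurd (Subgroup.card_eq_one.1 hk) hb
      · rw [hk, pow_one]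
    have hidx : ¬ 41 ∣ (pCore 41 X).index := by
      intro h1
      apply h2
      rw [← (pCore 41 X).card_mul_index, hcard, pow_two]
      exact Nat.mul_dvd_mul_left 41 h1
    let P : Sylow 41 X := hpp.toSylow hidx
    have hPn : (P : Subgroup X).Normal := hpn
    have hxp : IsPGroup 41 (zpowers x) := IsPGroup.of_card (n := 1) (by rw [Nat.card_zpowers, hx, pow_one])
    obtain ⟨Q, hQ⟩ := hxp.exists_le_sylow
    have hsub : Subsingleton (Sylow 41 X) := by
      have := Sylow.unique_of_normal P hPn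
      infer_instance
    rw [Subsingleton.elim Q P] at hQ
    have h5 : zpowers x = pCore 41 X := by
      refine Subgroup.eq_of_le_of_card_ge hQ ?_
      rw [hcard, Nat.card_zpowers, hx]
    rw [h5]
    exact hpn

end Cfsg.Agent.H241.Deg
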