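import Cfsg.Agent.H241.Deg.MonFortyOne
import Cfsg.Agent.H58.Mon.Seventy
import Cfsg.Agent.H626.LD.TwentyNine
import Cfsg.Agent.H715.Mon.Exact

/-!
# The Monster: `|C(x)| = 41` and `|N(⟨x⟩)| = 41 · 40` for `x` of order 41 (helper241; degrees, row `M`)
-/

set_option autoImplicit false

namespace Cfsg.Agent.H241.Deg.Mon

open Subgroup Cfsg Cfsg.Agent.H409 Cfsg.Agent.H940.Eng Cfsg.Agent.BpSpor.MBigModel

theorem h23 (B : Base) {p : ℕ} (hp : ¬ p ∣ 552) (y : MG) (hy : orderOf y = 23) :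
    ¬ p ∣ Nat.card (centralizer ({y} : Set MG)) := by
  rw [Cfsg.Agent.H715.Mon.Exact.card23 (Cfsg.Agent.H715.Mon.Grp.sThree B) hy]
  exact hp

theorem h29 {p : ℕ} (hp : ¬ p ∣ 87) (y : MG) (hy : orderOf y = 29) : ¬ p ∣ Nat.card (centralizer ({y} : Set MG)) := by
  rw [Cfsg.Agent.H626.LD.TwentyNine.card_cent hy]
  exact hp

theorem norm71 (B : Base) {y : MG} (hy : orderOf y = 71) : Nat.card (centralizer ({y} : Set MG)) = 71 ∧
      Nat.card (normalizer ((zpowers y : Subgroup MG) : Set MG)) = 71 * 35 :=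
  Cfsg.Agent.H58.Mon71.norm71 (Cfsg.Agent.H438.Fpr.Mon.allKnown B) (h23 B (by norm_num)) (h29 (by norm_num)) hy

/-- **Elements of order 41 of the Monster.** -/
theorem card41 (B : Base) {x : MG} (hx : orderOf x = 41) : Nat.card (centralizer ({x} : Set MG)) = 41 := by
  refine cent_eq B (h23 B (by norm_num)) (h29 (by norm_num)) (fun y hy => ?_) hx
  rw [(norm71 B hy).1]
  norm_num

theorem norm41 (B : Base) {x : MG} (hx : orderOf x = 41) :
    Nat.card (normalizer ((zpowers x : Subgroup MG) : Set MG)) = 41 * 40 := by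
  have := finite
  have := simple
  obtain ⟨e, he, he1, hN, -, hmod⟩ := Cfsg.Agent.H58.Cop.arith (by norm_num) hx
    (by rw [card_M]; norm_num : ¬ 41 ^ 2 ∣ Nat.card MG) (by rw [card_M]; norm_num)
  rw [card_M, card41 B hx] at hmod
  have hlist := mem_list e (Nat.lt_succ_of_le (Nat.le_of_dvd (by norm_num) he)) he he1
  rcases chk 0 0 e hlist (by simpa using hmod) with ⟨-, -, h⟩ | ⟨-, h, -⟩ | ⟨-, h, -⟩ | ⟨h, -, -⟩ | ⟨h, -, -⟩
  · rw [hN, card41 B hx, h]
  · exact absurd h (by norm_num)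
  · exact absurd h (by norm_num)
  · exact absurd h (by norm_num)
  · exact absurd h (by norm_num)

/-- the same in any Monster -/
theorem M.cent41 (B : Base) {S : Type*} [Group S] (h : Spor.IsoM S) {x : S} (hx : orderOf x = 41) :
    Nat.card (centralizer ({x} : Set S)) = 41 :=
  Cfsg.Agent.H715.Mon.Exact.transport h (fun _ hy => card41 B hy) hx

end Cfsg.Agent.H241.Deg.Mon
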