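import Cfsg.Agent.H241.Deg.FortyOne
import Cfsg.Agent.H438.Fpr.MonE
import Cfsg.Agent.H199.AbMon
import Cfsg.Agent.H58.Cop.Arith

/-!
# The Monster: an element of order 41 is self-centralizing (helper241; degrees, row `M`)

`cent_eq` : `|C(x)| = 41` if 41 does not divide the orders of the centralizers of the elements of order 23, 29 and 71.
-/

set_option autoImplicit false
set_option maxRecDepth 100000

namespace Cfsg.Agent.H241.Deg.Mon

open Subgroup Cfsg Cfsg.Agent.H409 Cfsg.Agent.H940.Eng Cfsg.Agent.H438.Fpr.Mon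
open Cfsg.Agent.H199.NSmMon Cfsg.Agent.H199.NSmAbs Cfsg.Agent.BpSpor.MBigModel

theorem hodd {x : MG} (hx : orderOf x = 41) {y : MG} (hy : orderOf y = 3 ∨ orderOf y = 5) (hxy : x * y = y * x) :
    ¬ 2 ∣ Nat.card (centralizer ({y} : Set MG)) := by
  have h41 : 41 ∣ Nat.card (centralizer ({y} : Set MG)) := hx ▸ dvd_of_comm hxy
  have hev : ¬ Ev y := by
    intro he
    rcases hy with hy | hy
    · rcases three hy he with h | h | h
      · rw [h] at h41
        norm_num at h41
      · rw [h] at h41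
        norm_num at h41
      · exact h 41 (by unfold Big; simp) h41
    · rcases five hy he with h | h
      · rw [h] at h41
        norm_num at h41
      · exact h 41 (by unfold Big; simp) h41
  exact odd_cent (fun g hg => hev ⟨g, hg⟩) h41

theorem orderOf_conj' {G : Type*} [Group G] (g y : G) : orderOf (g * y * g⁻¹) = orderOf y := by
  have := MulEquiv.orderOf_eq (MulAut.conj g) y
  rwa [MulAut.conj_apply] at this

/-- an element of order 3 or 5 of `C(x)` is not conjugate into the centralizer of an involution -/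
theorem not_common {x t : MG} (hx : orderOf x = 41) (ht : orderOf t = 2) {g y : MG} (hy : orderOf y = 3 ∨ orderOf y = 5)
    (hyx : y ∈ centralizer ({x} : Set MG)) (hyt : g * y * g⁻¹ ∈ centralizer ({t} : Set MG)) : False := by
  refine hodd hx hy (mem_centralizer_singleton_iff.1 hyx).symm ?_
  rw [mem_centralizer_singleton_iff] at hyt
  have h1 : (g⁻¹ * t * g) * y = y * (g⁻¹ * t * g) := by
    calc (g⁻¹ * t * g) * y = g⁻¹ * (t * (g * y * g⁻¹)) * g := by group
      _ = g⁻¹ * ((g * y * g⁻¹) * t) * g := by rw [hyt]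
      _ = y * (g⁻¹ * t * g) := by group
  have h2 : orderOf (g⁻¹ * t * g) = 2 := by
    have := orderOf_conj' g⁻¹ t
    rw [inv_inv] at this
    rw [this, ht]
  rw [← h2]
  exact dvd_of_comm h1

theorem not_three_pow {x : MG} (hx : orderOf x = 41) : ¬ 3 ^ 8 ∣ Nat.card (centralizer ({x} : Set MG)) := by
  have := finite
  intro h
  obtain ⟨t, ht, hta⟩ := exists_ta
  obtain ⟨g, y, hy, hyx, hyt⟩ := exists_common (p := 3) (n := 20) (a := 8) (b := 13) Nat.prime_three
    (by rw [card_M]; norm_num) h (T := centralizer ({t} : Set MG)) (by rw [card_cent_t hta]; norm_num) (by norm_num)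
  exact not_common hx ht (Or.inl hy) hyx hyt

theorem not_five_pow {x : MG} (hx : orderOf x = 41) : ¬ 5 ^ 4 ∣ Nat.card (centralizer ({x} : Set MG)) := by
  have := finite
  intro h
  obtain ⟨t, ht, hta⟩ := exists_ta
  obtain ⟨g, y, hy, hyx, hyt⟩ := exists_common (p := 5) (n := 9) (a := 4) (b := 6) Nat.prime_five
    (by rw [card_M]; norm_num) h (T := centralizer ({t} : Set MG)) (by rw [card_cent_t hta]; norm_num) (by norm_num)
  exact not_common hx ht (Or.inr hy) hyx hyt

theorem not_prime {q : ℕ} (hq : q.Prime) (h : ∀ y : MG, orderOf y = q → ¬ 41 ∣ Nat.card (centralizer ({y} : Set MG)))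
    {x : MG} (hx : orderOf x = 41) : ¬ q ∣ Nat.card (centralizer ({x} : Set MG)) := by
  have := finite
  have hqf := Fact.mk hq
  intro hd
  obtain ⟨v, hv⟩ := exists_prime_orderOf_dvd_card' q hd
  refine h (v : MG) (by rw [Subgroup.orderOf_coe, hv]) ?_
  rw [← hx]
  exact dvd_of_comm (mem_centralizer_singleton_iff.1 v.2).symm

/-- **The order of the centralizer.** -/
theorem cent_dvd (B : Base) (h23 : ∀ y : MG, orderOf y = 23 → ¬ 41 ∣ Nat.card (centralizer ({y} : Set MG)))
    (h29 : ∀ y : MG, orderOf y = 29 → ¬ 41 ∣ Nat.card (centralizer ({y} : Set MG)))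
    (h71 : ∀ y : MG, orderOf y = 71 → ¬ 41 ∣ Nat.card (centralizer ({y} : Set MG))) {x : MG} (hx : orderOf x = 41) :
    ∃ a < 8, ∃ b < 4, Nat.card (centralizer ({x} : Set MG)) = 3 ^ a * 5 ^ b * 41 := by
  have := finite
  set c := Nat.card (centralizer ({x} : Set MG)) with hc
  have cop : ∀ {q k : ℕ}, q.Prime → ¬ q ∣ c → Nat.Coprime c (q ^ k) := fun {q k} hq h =>
    ((Nat.Coprime.pow_left k ((Nat.Prime.coprime_iff_not_dvd hq).2 h))).symm
  have h1 : c ∣ 11 ^ 2 * (23 ^ 1 * (29 ^ 1 * (71 ^ 1 * (3 ^ 19 * 5 ^ 9 * 41)))) := by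
    refine (cent_41 B hx).trans ?_
    norm_num
  have h2 := (cop (k := 2) (q := 11) (by norm_num) (not_prime (by norm_num)
    (fun y hy => Cfsg.Agent.H199.AbMon.eleven_not_dvd (by simp) hy) hx)).dvd_of_dvd_mul_left h1
  have h3 := (cop (k := 1) (q := 23) (by norm_num) (not_prime (by norm_num) h23 hx)).dvd_of_dvd_mul_left h2
  have h4 := (cop (k := 1) (q := 29) (by norm_num) (not_prime (by norm_num) h29 hx)).dvd_of_dvd_mul_left h3
  have h5 := (cop (k := 1) (q := 71) (by norm_num) (not_prime (by norm_num) h71 hx)).dvd_of_dvd_mul_left h4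
  obtain ⟨u, d, hu, hd, hud⟩ := Nat.dvd_mul.1 h5
  obtain ⟨s, r, hs, hr, hsr⟩ := Nat.dvd_mul.1 hu
  obtain ⟨a, ha, rfl⟩ := (Nat.dvd_prime_pow Nat.prime_three).1 hs
  obtain ⟨b, hb, rfl⟩ := (Nat.dvd_prime_pow Nat.prime_five).1 hr
  have hd41 : d = 41 := by
    rcases (Nat.dvd_prime (by norm_num)).1 hd with h6 | h6
    · exfalso
      have h7 : 41 ∣ c := by
        rw [hc, ← hx]
        exact dvd_of_comm rfl
      rw [← hud, h6, mul_one, ← hsr] at h7
      rcases (Nat.Prime.dvd_mul (by norm_num)).1 h7 with h8 | h8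
      · have := Nat.Prime.dvd_of_dvd_pow (by norm_num) h8
        norm_num at this
      · have := Nat.Prime.dvd_of_dvd_pow (by norm_num) h8
        norm_num at this
    · exact h6
  rw [← hsr, hd41] at hud
  refine ⟨a, ?_, b, ?_, hud.symm⟩
  · by_contra hcon
    apply not_three_pow hx
    rw [← hc, ← hud]
    exact ((pow_dvd_pow 3 (by omega : 8 ≤ a)).trans (dvd_mul_right _ _)).trans (dvd_mul_right _ _)
  · by_contra hcon
    apply not_five_pow hx
    rw [← hc, ← hud]
    exact ((pow_dvd_pow 5 (by omega : 4 ≤ b)).trans (dvd_mul_left _ _)).trans (dvd_mul_right _ _)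

/-- the arithmetic -/
theorem chk : ∀ a : Fin 8, ∀ b : Fin 4, ∀ e ∈ ([2, 4, 5, 8, 10, 20, 40] : List ℕ),
    808017424794512875886459904961710757005754368000000000 / (3 ^ a.val * 5 ^ b.val * 41 * e) % 41 = 1 →
      (a.val = 0 ∧ b.val = 0 ∧ e = 40) ∨ (a.val = 0 ∧ b.val = 1 ∧ e = 8) ∨ (a.val = 0 ∧ b.val = 3 ∧ e = 20) ∨
        (a.val = 2 ∧ b.val = 1 ∧ e = 10) ∨ (a.val = 2 ∧ b.val = 2 ∧ e = 2) := by decide +kernel

theorem mem_list : ∀ e < 41, e ∣ 40 → e ≠ 1 → e ∈ ([2, 4, 5, 8, 10, 20, 40] : List ℕ) := by decide +kernel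

/-- 41 acts trivially on the groups of prime power order dividing `|M|`, except for 2 and 3 -/
theorem hcond : ∀ q : ℕ, q.Prime → q ≠ 2 → q ≠ 3 → q ≠ 41 → ∀ i, 1 ≤ i → q ^ i ∣ Nat.card MG → ¬ 41 ∣ q ^ i - 1 := by
  intro p hp hp2 hp3 hp41 i hi hd
  rw [card_M] at hd
  have hm : p ∈ ([2, 3, 5, 7, 11, 13, 17, 19, 23, 29, 31, 41, 47, 59, 71] : List ℕ) := by
    have hd' := (dvd_pow_self p (by omega)).trans hd
    have e : (808017424794512875886459904961710757005754368000000000 : ℕ) = 2 ^ 46 * 3 ^ 20 * 5 ^ 9 * 7 ^ 6 * 11 ^ 2 * 13 ^ 3 *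
      17 * 19 * 23 * 29 * 31 * 41 * 47 * 59 * 71 := by norm_num
    rw [e] at hd'
    have key : ∀ {q : ℕ}, q.Prime → p ∣ q → p = q := fun hq h => (Nat.prime_dvd_prime_iff_eq hp hq).1 h
    have keyp : ∀ {q n : ℕ}, q.Prime → p ∣ q ^ n → p = q := fun hq h => key hq (hp.dvd_of_dvd_pow h)
    simp only [List.mem_cons, List.not_mem_nil, or_false]
    rcases hp.dvd_mul.1 hd' with hd' | h
    swap; · have := key (by norm_num) h; omega
    rcases hp.dvd_mul.1 hd' with hd' | h
    swap; · have := key (by norm_num) h; omega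
    rcases hp.dvd_mul.1 hd' with hd' | h
    swap; · have := key (by norm_num) h; omega
    rcases hp.dvd_mul.1 hd' with hd' | h
    swap; · have := key (by norm_num) h; omega
    rcases hp.dvd_mul.1 hd' with hd' | h
    swap; · have := key (by norm_num) h; omega
    rcases hp.dvd_mul.1 hd' with hd' | h
    swap; · have := key (by norm_num) h; omega
    rcases hp.dvd_mul.1 hd' with hd' | h
    swap; · have := key (by norm_num) h; omega
    rcases hp.dvd_mul.1 hd' with hd' | h
    swap; · have := key (by norm_num) h; omega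
    rcases hp.dvd_mul.1 hd' with hd' | h
    swap; · have := key (by norm_num) h; omega
    rcases hp.dvd_mul.1 hd' with hd' | h
    swap; · have := keyp (by norm_num) h; omega
    rcases hp.dvd_mul.1 hd' with hd' | h
    swap; · have := keyp (by norm_num) h; omega
    rcases hp.dvd_mul.1 hd' with hd' | h
    swap; · have := keyp (by norm_num) h; omega
    rcases hp.dvd_mul.1 hd' with hd' | h
    swap; · have := keyp (by norm_num) h; omega
    rcases hp.dvd_mul.1 hd' with hd' | h
    swap; · have := keyp (by norm_num) h; omega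
    have := keyp (by norm_num) hd'; omega
  simp only [List.mem_cons, List.not_mem_nil, or_false] at hm
  have key : ∀ m, ¬ p ^ (m + 1) ∣ 808017424794512875886459904961710757005754368000000000 →
      Cfsg.Agent.H995.CopEngine.condB 41 p m = true → ¬ 41 ∣ p ^ i - 1 := fun m h1 h2 =>
    Cfsg.Agent.H995.CopEngine.cond_of_chk hp h1 h2 i hi hd
  rcases hm with rfl | rfl | rfl | rfl | rfl | rfl | rfl | rfl | rfl | rfl | rfl | rfl | rfl | rfl | rfl
  · exact absurd rfl hp2
  · exact absurd rfl hp3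
  · exact key 9 (by norm_num) (by decide +kernel)
  · exact key 6 (by norm_num) (by decide +kernel)
  · exact key 2 (by norm_num) (by decide +kernel)
  · exact key 3 (by norm_num) (by decide +kernel)
  · exact key 1 (by norm_num) (by decide +kernel)
  · exact key 1 (by norm_num) (by decide +kernel)
  · exact key 1 (by norm_num) (by decide +kernel)
  · exact key 1 (by norm_num) (by decide +kernel)
  · exact key 1 (by norm_num) (by decide +kernel)
  · exact absurd rfl hp41
  · exact key 1 (by norm_num) (by decide +kernel)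
  · exact key 1 (by norm_num) (by decide +kernel)
  · exact key 1 (by norm_num) (by decide +kernel)

/-- **An element of order 41 of the Monster is self-centralizing.** -/
theorem cent_eq (B : Base) (h23 : ∀ y : MG, orderOf y = 23 → ¬ 41 ∣ Nat.card (centralizer ({y} : Set MG)))
    (h29 : ∀ y : MG, orderOf y = 29 → ¬ 41 ∣ Nat.card (centralizer ({y} : Set MG)))
    (h71 : ∀ y : MG, orderOf y = 71 → ¬ 41 ∣ Nat.card (centralizer ({y} : Set MG))) {x : MG} (hx : orderOf x = 41) :
    Nat.card (centralizer ({x} : Set MG)) = 41 := by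
  have := finite
  have := simple
  have H : Hyp x :=
    { hx := hx
      h41 := by rw [card_M]; norm_num
      h3 := by rw [card_M]; norm_num
      s3 := by rw [card_M]; norm_num
      s5 := by rw [card_M]; norm_num
      hc := hcond
      hodd := fun y hy hxy => hodd hx hy hxy }
  obtain ⟨a, ha, b, hb, hc⟩ := cent_dvd B h23 h29 h71 hx
  obtain ⟨e, he, he1, hN, -, hmod⟩ := Cfsg.Agent.H58.Cop.arith (by norm_num) hx H.h41 (by rw [card_M]; norm_num)
  rw [card_M, hc] at hmod
  have hlist := mem_list e (Nat.lt_succ_of_le (Nat.le_of_dvd (by norm_num) he)) he he1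
  have h2 : 2 ∣ e ∨ e = 5 := by
    simp only [List.mem_cons, List.not_mem_nil, or_false] at hlist
    rcases hlist with rfl | rfl | rfl | rfl | rfl | rfl | rfl <;> norm_num
  have key : ∀ (h2e : 2 ∣ e), ∀ c ∈ centralizer ({x} : Set MG), ∀ d ∈ centralizer ({x} : Set MG), c * d = d * c :=
    fun h2e => H.comm (a := a) (b := b) (dvd_of_eq hc) (by rw [hN]; exact h2e.mul_left _)
  rcases chk ⟨a, ha⟩ ⟨b, hb⟩ e hlist hmod with ⟨h3, h4, h5⟩ | ⟨h3, h4, h5⟩ | ⟨h3, h4, h5⟩ | ⟨h3, h4, h5⟩ | ⟨h3, h4, h5⟩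
  · change a = 0 at h3
    change b = 0 at h4
    rw [hc, h3, h4]
    norm_num
  · exfalso
    change a = 0 at h3
    change b = 1 at h4
    subst h3 h4 h5
    have h6 := H.five_dvd_e (key (by norm_num)) (by rw [hN, hc]; norm_num) (b := 1) one_ne_zero (by rw [hc]; norm_num)
      (by rw [hc]; norm_num) hN
    norm_num at h6
  · exfalso
    change a = 0 at h3
    change b = 3 at h4
    subst h3 h4 h5
    exact H.not_cube (key (by norm_num)) (by rw [hN, hc]; norm_num) (by rw [hc]; norm_num) (by rw [hc]; norm_num)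
  · exfalso
    change a = 2 at h3
    change b = 1 at h4
    subst h3 h4 h5
    exact H.not_nine (key (by norm_num)) (by rw [hN, hc]; norm_num) (b := 1) one_ne_zero (by rw [hc]; norm_num)
      (by rw [hc]; norm_num) hN (by norm_num) (by rw [hc]; norm_num) (by rw [hc]; norm_num)
  · exfalso
    change a = 2 at h3
    change b = 2 at h4
    subst h3 h4 h5
    have h6 := H.five_dvd_e (key (by norm_num)) (by rw [hN, hc]; norm_num) (b := 2) two_ne_zero (by rw [hc]; norm_num)
      (by rw [hc]; norm_num) hN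
    norm_num at h6

end Cfsg.Agent.H241.Deg.Mon
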